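import Groth.Agent.Unram17.K135.LiftH1
import Groth.Agent.Flat2H.FSSmoothHom
import Groth.Agent.Sga2.PnHomAdj
import Groth.Agent.Sga2.PnHomExact
import Groth.Agent.Sga67.ClosedTens
import Groth.Agent.Sga2.PicThick
import Groth.Agent.FormalA.ClosedImm
import Groth.Agent.Fga.HShift
import Groth.Agent.Surf.K459.HomLES
import Groth.Agent.S0458

/-!
# Lifting morphisms to a smooth scheme along a square-zero closed immersion

* `exists_lift` : `j : X₀ ⟶ X` square-zero closed immersion with conormal module `M`, `q : Y ⟶ S` smooth,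
  `g : X₀ ⟶ Y`; if `H¹(X₀, Hom(g^*Ω, M)) = 0` then `g` extends to an `S`-morphism `X ⟶ Y`.
* `exists_lift_closed` : the same when the ideal of `j` is `(i ≫ j)_* P` for a closed subscheme `i : X₁ ⟶ X₀`;
  the condition is `H¹(X₁, Hom((i ≫ g)^*Ω, P)) = 0`.
* `exists_lift_of_epi` : `X₁` of dimension at most one; the condition is `H¹(X₁, Hom((i ≫ g)^*Ω, L)) = 0` for some
  `L` mapping onto `P`.
-/

set_option autoImplicit false
universe u

open CategoryTheory CategoryTheory.Limits AlgebraicGeometry Opposite TopologicalSpace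
open Groth.Agent.CohqB.HomSheaf Groth.Agent.Sga2.PnHomAdj Groth.Agent.Sga2.PnHomExact
open Groth.Agent.Unram17.K135.LiftH1

namespace K314.Lift

/-- `f_* Hom(f^* M, P) ≅ Hom(M, f_* P)`. -/
noncomputable def pushHom {X Y : Scheme.{u}} (f : Y ⟶ X) (M : X.Modules) :
    homF ((Scheme.Modules.pullback f).obj M) ⋙ Scheme.Modules.pushforward f ≅
      Scheme.Modules.pushforward f ⋙ homF M :=
  Adjunction.rightAdjointUniq
    ((Scheme.Modules.pullbackPushforwardAdjunction f).comp (homAdj ((Scheme.Modules.pullback f).obj M)))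
    (((homAdj M).comp (Scheme.Modules.pullbackPushforwardAdjunction f)).ofNatIsoLeft
      (Groth.Agent.Sga67.ClosedTens.muIso f M))

/-- The sheaf Hom is functorial in isomorphisms of the source. -/
theorem hh_homSheaf_congr {X : Scheme.{u}} {E E' P P' : X.Modules} (e : E ≅ E') (e' : P ≅ P') (n : ℕ)
    (h : Subsingleton (Coh.HH X (homSheaf E P) n)) : Subsingleton (Coh.HH X (homSheaf E' P') n) := by
  have h1 : Subsingleton (Coh.HH X (homSheaf E' P) n) :=
    Groth.Agent.Fga.HShift.subsingleton_of_iso ((homFL P).mapIso e.symm.op) n h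
  exact Groth.Agent.Fga.HShift.subsingleton_of_iso ((homF E').mapIso e') n h1

/-- Global lifts exist when `H¹(Hom(g^*Ω, M)) = 0`. -/
theorem exists_lift {X₀ X Y S : Scheme.{u}} (j : X₀ ⟶ X) [IsClosedImmersion j]
    (hI : j.ker ^ 2 = ⊥) (q : Y ⟶ S) [Smooth q] (g : X₀ ⟶ Y) (a : X ⟶ S) (w : j ≫ a = g ≫ q)
    {M : X₀.Modules} (e : M ≅ (Scheme.Modules.pullback j).obj (ClSub.idealMod j.ker))
    {Ω : Y.Modules} {d : OmegaSh.Der q Ω} (hd : OmegaSh.IsUniversal d)
    (h1 : Subsingleton (Coh.HH X₀ (homSheaf ((Scheme.Modules.pullback g).obj Ω) M) 1)) :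
    ∃ b : X ⟶ Y, j ≫ b = g ∧ b ≫ q = a := by
  have hs : Surjective j := K696.SqZ.surjective_of_sq j hI
  have K := K696.Glob.kapg j hI e
  have hnil : IsNilpotent j.ker := ⟨2, hI⟩
  choose W hW htW hWle l hl1 hl2 using fun x : X =>
    Groth.Agent.Flat2H.FSLift.exists_local_lift q
      (Groth.Agent.Flat2H.FSSmoothHom.affLocFS_of_smooth q) j hnil g a w x ⊤ trivial
  obtain ⟨b, hb1, hb2⟩ := exists_lift_of_H1 hI K hd h1 W
    (fun x => ⟨x, htW x⟩) (fun x => ⟨l x, hl1 x, hl2 x⟩)
  exact ⟨b, hb2, hb1⟩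

/-- Lifts when the ideal is supported on a closed subscheme. -/
theorem exists_lift_closed {X₁ X₀ X Y S : Scheme.{u}} (i : X₁ ⟶ X₀) [IsClosedImmersion i] (j : X₀ ⟶ X)
    [IsClosedImmersion j] (hI : j.ker ^ 2 = ⊥) {P : X₁.Modules}
    (e : (Scheme.Modules.pushforward (i ≫ j)).obj P ≅ ClSub.idealMod j.ker)
    (q : Y ⟶ S) [Smooth q] (g : X₀ ⟶ Y) (a : X ⟶ S) (w : j ≫ a = g ≫ q)
    {Ω : Y.Modules} {d : OmegaSh.Der q Ω} (hd : OmegaSh.IsUniversal d)
    (h1 : Subsingleton (Coh.HH X₁ (homSheaf ((Scheme.Modules.pullback (i ≫ g)).obj Ω) P) 1)) :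
    ∃ b : X ⟶ Y, j ≫ b = g ∧ b ≫ q = a := by
  let M : X₀.Modules := (Scheme.Modules.pushforward i).obj P
  have e1 : (Scheme.Modules.pushforward j).obj M ≅ ClSub.idealMod j.ker :=
    (Scheme.Modules.pushforwardComp i j).app P ≪≫ e
  have hc : IsIso ((Scheme.Modules.pullbackPushforwardAdjunction j).counit.app M) := inferInstance
  have e2 : M ≅ (Scheme.Modules.pullback j).obj (ClSub.idealMod j.ker) :=
    (asIso ((Scheme.Modules.pullbackPushforwardAdjunction j).counit.app M)).symm ≪≫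
      (Scheme.Modules.pullback j).mapIso e1
  refine exists_lift j hI q g a w e2 hd ?_
  have h2 : Subsingleton (Coh.HH X₁ (homSheaf ((Scheme.Modules.pullback i).obj ((Scheme.Modules.pullback g).obj Ω)) P) 1) :=
    hh_homSheaf_congr ((Scheme.Modules.pullbackComp i g).app Ω).symm (Iso.refl P) 1 h1
  have h3 := Groth.Agent.Sga2.PicThick.subsingleton_HH_pushforward i _ 1 h2
  exact Groth.Agent.Fga.HShift.subsingleton_of_iso
    ((pushHom i ((Scheme.Modules.pullback g).obj Ω)).app P) 1 h3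

/-- Grothendieck vanishing in dimension one. -/
theorem subsingleton_H2 {Y : Scheme.{u}} [IsNoetherian Y] (hd : topologicalKrullDim Y ≤ 1) (M : Y.Modules) :
    Subsingleton (Coh.HH Y M 2) := by
  have : NoetherianSpace (Y.toTopCat) := inferInstanceAs (NoetherianSpace Y)
  have hd' : topologicalKrullDim Y ≤ ((1 : ℕ) : WithBot ℕ∞) := by simpa using hd
  exact Groth.Agent.S0458.result (X := Y.toTopCat) 1 hd' (Coh.toAb M) 2 (by norm_num)

/-- On a Noetherian scheme of dimension at most one, the quotient of a module with `H¹ = 0` has `H¹ = 0`. -/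
theorem subsingleton_of_epi {Y : Scheme.{u}} [IsNoetherian Y] (hd : topologicalKrullDim Y ≤ 1)
    {M N : Y.Modules} (e : M ⟶ N) [Epi e] (h : Subsingleton (Coh.HH Y M 1)) :
    Subsingleton (Coh.HH Y N 1) := by
  have hS : (ShortComplex.mk (kernel.ι e) e (kernel.condition e)).ShortExact :=
    { exact := ShortComplex.exact_kernel e }
  exact Groth.Agent.Fga.HShift.subsingleton₃ hS 1 h (subsingleton_H2 hd (kernel e))

theorem homSheaf_of_epi {Y : Scheme.{u}} [IsNoetherian Y] (hd : topologicalKrullDim Y ≤ 1) {E L P : Y.Modules}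
    (hE : FlatMod.IsFinLocFree E) (e : L ⟶ P) [Epi e] (h : Subsingleton (Coh.HH Y (homSheaf E L) 1)) :
    Subsingleton (Coh.HH Y (homSheaf E P) 1) := by
  have := K459.HomLES.epi_homMapRight hE e
  exact subsingleton_of_epi hd (homMapRight E e) h

end K314.Lift
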