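import Groth.Agent.S17087

/-!
# The scheme of morphisms as an open subscheme of the Hilbert scheme

* `IsMor c f m pc pm u` : `m : M ⟶ S` with `u : P = C ×_S M ⟶ X` represents `S`-morphisms `C ⟶ X` on locally
  Noetherian test schemes;
* `exists_isMor` : existence from a representing pair of the Hilbert functor of `C ×_S X`.
-/

set_option autoImplicit false
universe u
open CategoryTheory CategoryTheory.Limits AlgebraicGeometry Opposite

namespace K314.MorScheme

open Groth.Agent.S17087 Groth.Agent.Fga.HilbClosed Groth.Agent.Fga.RelCart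

/-- `m : M ⟶ S` together with `u : P ⟶ X`, `P = C ×_S M`, represents the functor of `S`-morphisms `C ⟶ X` on
locally Noetherian `S`-schemes. -/
structure IsMor {S C X M P : Scheme.{u}} (c : C ⟶ S) (f : X ⟶ S) (m : M ⟶ S) (pc : P ⟶ C) (pm : P ⟶ M)
    (u : P ⟶ X) : Prop where
  sq : IsPullback pc pm c m
  comm : u ≫ f = pm ≫ m
  existsUnique : ∀ {T Q : Scheme.{u}} [IsLocallyNoetherian T] (t : T ⟶ S) (qc : Q ⟶ C) (qt : Q ⟶ T),
    IsPullback qc qt c t → ∀ a : Q ⟶ X, a ≫ f = qt ≫ t →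
      ∃! g : T ⟶ M, g ≫ m = t ∧ ∀ h : Q ⟶ P, h ≫ pc = qc → h ≫ pm = qt ≫ g → h ≫ u = a

section

variable {X Y S : Scheme.{u}} (gX : X ⟶ S) (gY : Y ⟶ S)

/-- Pullback of a family of morphisms. -/
noncomputable def mpull {T H : Over S} (g : T ⟶ H) (a : (Flatn.morS gX gY).obj (op H)) :
    (Flatn.morS gX gY).obj (op T) := (Flatn.morS gX gY).map g.op a

theorem mpull_left {T H : Over S} (g : T ⟶ H) (a : (Flatn.morS gX gY).obj (op H)) :
    (mpull gX gY g a).left = ((Over.pullback gX).map g).left ≫ a.left := rfl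

theorem Γ_mpull {T H : Over S} (g : T ⟶ H) (a : (Flatn.morS gX gY).obj (op H)) :
    Γ gX gY T (mpull gX gY g a) ≫ PicF.XTmap (pullback.fst gX gY ≫ gX) g =
      ((Over.pullback gX).map g).left ≫ Γ gX gY H a := by
  have h1 := (isPullback_XTmap_r gX gY g).1
  apply Γ_ext gX gY
  · rw [Category.assoc, h1.w, ← Category.assoc, Γ_r, Category.id_comp, Category.assoc, Γ_r]
    exact (Category.comp_id _).symm
  · have h2 : PicF.XTmap (pullback.fst gX gY ≫ gX) g ≫
        pullback.fst (pullback.fst gX gY ≫ gX) H.hom = pullback.fst (pullback.fst gX gY ≫ gX) T.hom :=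
      FGA.XTmap_fst _ g
    rw [Category.assoc, reassoc_of% h2, Γ_y, Category.assoc, Γ_y, mpull_left]

theorem isPullback_Γ {T H : Over S} (g : T ⟶ H) (a : (Flatn.morS gX gY).obj (op H)) :
    IsPullback (Γ gX gY T (mpull gX gY g a)) ((Over.pullback gX).map g).left
      (PicF.XTmap (pullback.fst gX gY ≫ gX) g) (Γ gX gY H a) := by
  have h1 := (isPullback_XTmap_r gX gY g).1
  refine IsPullback.of_right (h₁₂ := r gX gY T) (h₂₂ := r gX gY H) ?_ (Γ_mpull gX gY g a) h1.flip
  rw [Γ_r, Γ_r]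
  exact @IsPullback.of_horiz_isIso _ _ _ _ _ _ _ _ _ _ (IsIso.id _) (IsIso.id _)
    ⟨(Category.id_comp _).trans (Category.comp_id _).symm⟩

theorem hilbPull_Γ [IsSeparated gY] {T H : Over S} (g : T ⟶ H) (a : (Flatn.morS gX gY).obj (op H)) :
    FGA.hilbPull (pullback.fst gX gY ≫ gX) g (Γ gX gY H a).ker = (Γ gX gY T (mpull gX gY g a)).ker := by
  have := isClosedImmersion_Γ gX gY H a
  rw [Groth.Agent.Fga.RelCart.hilbPull_eq_comap]
  exact (ker_of_isPullback (isPullback_Γ gX gY g a).flip).symm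

/-- **The scheme of morphisms**, from the Hilbert scheme. -/
theorem exists_isMor [IsLocallyNoetherian S] [IsProper gX] [Flat gX] [IsSeparated gY] (H : Over S)
    (Z : FGA.HilbSet (pullback.fst gX gY ≫ gX) H) (hH : FGA.HilbRepresentedBy (pullback.fst gX gY ≫ gX) H Z) :
    ∃ (H₀ : H.left.Opens) (u : pullback (H₀.ι ≫ H.hom) gX ⟶ Y),
      IsMor gX gY (H₀.ι ≫ H.hom) (pullback.snd _ _) (pullback.fst _ _) u := by
  obtain ⟨H₀, h0⟩ := Groth.Agent.S17087.result gX gY H Z hH
  have hN := hH.1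
  let T₀ : Over S := Over.mk (H₀.ι ≫ H.hom)
  have : IsLocallyNoetherian T₀.left := inferInstanceAs (IsLocallyNoetherian H₀.toScheme)
  let g₀ : T₀ ⟶ H := Over.homMk H₀.ι rfl
  have hg₀ : Set.range g₀.left ⊆ (H₀ : Set H.left) := by
    change Set.range H₀.ι ⊆ _
    rw [Scheme.Opens.range_ι]
  obtain ⟨a₀, ha₀, -⟩ := (h0 T₀).2 g₀ hg₀
  change FGA.hilbPull (pullback.fst gX gY ≫ gX) g₀ Z.1 = (Γ gX gY T₀ a₀).ker at ha₀
  refine ⟨H₀, a₀.left, ⟨(IsPullback.of_hasPullback _ _).flip, ?_, ?_⟩⟩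
  · have := Over.w a₀
    change a₀.left ≫ gY = pullback.snd _ _ ≫ gX at this
    rw [this]
    exact pullback.condition.symm
  intro T Q _ t qc qt sq' a ha
  let T' : Over S := Over.mk t
  have : IsLocallyNoetherian T'.left := inferInstanceAs (IsLocallyNoetherian T)
  let e : Q ≅ pullback t gX := sq'.flip.isoPullback
  have he1 : e.hom ≫ pullback.fst t gX = qt := sq'.flip.isoPullback_hom_fst
  have he2 : e.hom ≫ pullback.snd t gX = qc := sq'.flip.isoPullback_hom_snd
  have hi1 : e.inv ≫ qt = pullback.fst t gX := sq'.flip.isoPullback_inv_fst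
  have hi2 : e.inv ≫ qc = pullback.snd t gX := sq'.flip.isoPullback_inv_snd
  let aT : (Flatn.morS gX gY).obj (op T') :=
    (Over.homMk (e.inv ≫ a) (by
      change (e.inv ≫ a) ≫ gY = pullback.snd t gX ≫ gX
      rw [Category.assoc, ha, ← Category.assoc, hi1]
      exact pullback.condition) : (Over.map gX).obj ((Over.pullback gX).obj T') ⟶ Over.mk gY)
  have haT : aT.left = e.inv ≫ a := rfl
  obtain ⟨g, ⟨hg1, hg2⟩, hg3⟩ := (h0 T').1 aT
  change FGA.hilbPull (pullback.fst gX gY ≫ gX) g Z.1 = (Γ gX gY T' aT).ker at hg2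
  let gM : T ⟶ H₀.toScheme := IsOpenImmersion.lift H₀.ι g.left (by
    rw [Scheme.Opens.range_ι]; exact hg1)
  have hgM : gM ≫ H₀.ι = g.left := IsOpenImmersion.lift_fac _ _ _
  -- comparison of a morphism to `M` with its family
  have key : ∀ (g' : T ⟶ H₀.toScheme) (w : g' ≫ H₀.ι ≫ H.hom = t) (gO : T' ⟶ T₀), gO.left = g' →
      ((∀ h : Q ⟶ pullback (H₀.ι ≫ H.hom) gX, h ≫ pullback.snd _ _ = qc → h ≫ pullback.fst _ _ = qt ≫ g' →
        h ≫ a₀.left = a) ↔ mpull gX gY gO a₀ = aT) := by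
    intro g' w gO hgO
    have e1 : ((Over.pullback gX).map gO).left ≫ pullback.fst T₀.hom gX = pullback.fst t gX ≫ gO.left :=
      pullback.lift_fst _ _ _
    have e2 : ((Over.pullback gX).map gO).left ≫ pullback.snd T₀.hom gX = pullback.snd t gX :=
      pullback.lift_snd _ _ _
    constructor
    · intro hh
      apply Over.OverMorphism.ext
      rw [mpull_left, haT]
      have h1 := hh (e.hom ≫ ((Over.pullback gX).map gO).left)
        (by rw [Category.assoc]; exact (congrArg (e.hom ≫ ·) e2).trans he2)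
        (by
          rw [Category.assoc]
          refine (congrArg (e.hom ≫ ·) e1).trans ?_
          rw [← Category.assoc, he1, hgO])
      rw [Category.assoc] at h1
      rw [← h1, Iso.inv_hom_id_assoc]
    · intro hh h h1 h2
      have h3 : h = e.hom ≫ ((Over.pullback gX).map gO).left := by
        apply pullback.hom_ext
        · rw [h2, Category.assoc]
          refine Eq.trans ?_ (congrArg (e.hom ≫ ·) e1.symm)
          rw [← Category.assoc, he1, hgO]
        · rw [h1, Category.assoc]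
          refine Eq.trans ?_ (congrArg (e.hom ≫ ·) e2.symm)
          exact he2.symm
      have h4 := congrArg (fun b => b.left) hh
      change (mpull gX gY gO a₀).left = aT.left at h4
      rw [mpull_left, haT] at h4
      rw [h3, Category.assoc, h4, Iso.hom_inv_id_assoc]
  have key2 : ∀ (gO : T' ⟶ T₀), FGA.hilbPull (pullback.fst gX gY ≫ gX) (gO ≫ g₀) Z.1 =
      (Γ gX gY T' (mpull gX gY gO a₀)).ker := by
    intro gO
    rw [hilbPull_comp, ha₀, hilbPull_Γ]
  have hgMw : gM ≫ H₀.ι ≫ H.hom = t := by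
    rw [← Category.assoc, hgM]
    exact Over.w g
  refine ⟨gM, ⟨hgMw, ?_⟩, ?_⟩
  · let gO : T' ⟶ T₀ := Over.homMk gM hgMw
    rw [key gM hgMw gO rfl]
    have h1 : gO ≫ g₀ = g := Over.OverMorphism.ext hgM
    obtain ⟨b, -, hb⟩ := (h0 T').2 g hg1
    have h2 : FGA.hilbPull (pullback.fst gX gY ≫ gX) g Z.1 = (Γ gX gY T' (mpull gX gY gO a₀)).ker := by
      rw [← h1]; exact key2 gO
    exact (hb _ h2).trans (hb _ hg2).symm
  · rintro g' ⟨hw, hg'⟩
    let gO : T' ⟶ T₀ := Over.homMk g' hw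
    rw [key g' hw gO rfl] at hg'
    have h1 : gO ≫ g₀ = g := by
      refine hg3 _ ⟨?_, ?_⟩
      · change Set.range (g' ≫ H₀.ι) ⊆ _
        rintro _ ⟨x, rfl⟩
        exact (g' x).2
      · have h2 := key2 gO
        rw [hg'] at h2
        exact h2
    rw [← cancel_mono H₀.ι, hgM, ← h1]
    rfl

end

end K314.MorScheme
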