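import Groth.Agent.S2926
import Groth.Agent.Gaga.H364.TwEmb
import Groth.Agent.Surf.K462.HomMon
import Groth.Agent.Sga2.PnTwHom
import Groth.Agent.CohqA.HBiprod
import Groth.Agent.Ega3B.SectExact
import Groth.Agent.Smoothlim.ModKer
import Groth.Agent.Sga67.LocBasisOps
import Groth.Agent.S5683
import Groth.Agent.MorSch.K314.Lift

/-!
# Vector bundles on `P¹`: `H⁰(E(a)) = 0` for some `a ≥ -2` implies `H¹(Hom(E, O)) = 0`
-/

set_option autoImplicit false
universe u

open CategoryTheory CategoryTheory.Limits AlgebraicGeometry Opposite TopologicalSpace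
open Groth.Agent Groth.Agent.CohqB.HomSheaf Groth.Agent.Sga2.PnHomAdj
open Groth.Agent.PerfB.TwistDer Groth.Agent.Ega2.Tens

namespace K314.P1H1

open K314.Lift

attribute [local instance] Abelian.hasFiniteBiproducts

theorem h0_injective {X : Scheme.{u}} {M N : X.Modules} (f : M ⟶ N) [Mono f]
    (h : Subsingleton (Coh.HH X N 0)) : Subsingleton (Coh.HH X M 0) := by
  have h1 : Subsingleton Γ(N, ⊤) := (Ega3B.SectExact.secEquiv N).symm.toEquiv.subsingleton
  have h2 : Function.Injective (f.app ⊤) := Smoothlim.ModKer.app_injective_of_mono f ⊤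
  have h5 : Subsingleton Γ(M, ⊤) := h2.subsingleton
  exact (Ega3B.SectExact.secEquiv M).toEquiv.subsingleton

variable {k : Type u} [Field k]

/-- Vanishing of `H⁰` of a twist implies vanishing for the smaller twists. -/
theorem h0_of_le (E : (CohB1.ProjSpace 1 k).Modules) (d a : ℤ) (ha : d ≤ a)
    (h : Subsingleton (Coh.HH (CohB1.ProjSpace 1 k) (CohB1.tensorMod E (Twist.twistProjSpace 1 k a)) 0)) :
    Subsingleton (Coh.HH (CohB1.ProjSpace 1 k) (CohB1.tensorMod E (Twist.twistProjSpace 1 k d)) 0) := by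
  have hk : a = d + ((a - d).toNat : ℤ) := by omega
  have := Gaga.H364.TwEmb.exists_mono_twist E (a - d).toNat d a hk
  refine h0_injective (biproduct.lift fun i : Fin (1 + 1) => Gaga.H364.TwEmb.tmul E i (a - d).toNat d a hk) ?_
  exact CohqA.HBiprod.subsingleton_HH_biproduct _ 0 fun _ => h

/-- **`H⁰(E(a)) = 0` for some `a ≥ -2` implies `H¹(Hom(E, O)) = 0`.** -/
theorem h1_of_h0 {E : (CohB1.ProjSpace 1 k).Modules} (hE : FlatMod.IsFinLocFree E) (a : ℤ) (ha : -2 ≤ a)
    (h : Subsingleton (Coh.HH (CohB1.ProjSpace 1 k) (CohB1.tensorMod E (Twist.twistProjSpace 1 k a)) 0)) :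
    Subsingleton (Coh.HH (CohB1.ProjSpace 1 k) (homSheaf E (Coh.structureModule (CohB1.ProjSpace 1 k))) 1) := by
  have h2 := h0_of_le E (-2) a ha h
  let F : (CohB1.ProjSpace 1 k).Modules := CohB1.tensorMod (Twist.twistProjSpace 1 k (-2)) E
  have hF0 : Subsingleton (Coh.HH (CohB1.ProjSpace 1 k) F 0) :=
    Fga.HShift.subsingleton_of_iso (swap E (Twist.twistProjSpace 1 k (-2))) 0 h2
  have hF : FlatMod.IsFinLocFree F :=
    Sga67.LocBasis.isFinLocFree_tensorMod (Groth.Agent.S5683.isFinLocFree_of_isInvertible (isInvertible_tw 1 k (-2))) hE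
  obtain ⟨e⟩ := Groth.Agent.S2926.result k 1 F hF 0 (by norm_num)
  have h3 : Subsingleton (Module.Dual k (Coh.HH (CohB1.ProjSpace 1 k) F 0)) := inferInstance
  have h4 := e.symm.toEquiv.subsingleton
  let e1 : (DCoh.sheafHom F).obj (Twist.twistProjSpace 1 k (-((1 : ℕ) + 1))) ≅
      homSheaf F (Twist.twistProjSpace 1 k (-((1 : ℕ) + 1))) :=
    (sheafHomIso F).app _
  let e2 : homSheaf F (Twist.twistProjSpace 1 k (-((1 : ℕ) + 1))) ≅
      homSheaf E (homSheaf (Twist.twistProjSpace 1 k (-2)) (Twist.twistProjSpace 1 k (-((1 : ℕ) + 1)))) :=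
    K462.HomMon.assocIso _ _ _
  let e3 : homSheaf (Twist.twistProjSpace 1 k (-2)) (Twist.twistProjSpace 1 k (-((1 : ℕ) + 1))) ≅
      Coh.structureModule (CohB1.ProjSpace 1 k) :=
    Sga2.PnTwHom.homSheafTw 1 k (-2) (-((1 : ℕ) + 1)) 0 (by norm_num) ≪≫ (twZero 1 k).symm
  have h5 := Fga.HShift.subsingleton_of_iso (e1 ≪≫ e2) 1 h4
  exact hh_homSheaf_congr (Iso.refl E) e3 1 h5

end K314.P1H1
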