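import Groth.Agent.MorSch.K314.Lift
import Groth.Agent.Flat2C.Thick
import Groth.Agent.CohqA.IdealMod
import Groth.Agent.PerfB.FlatPull
import Groth.Prelude.Def_KLin

/-!
# Lifting morphisms to a smooth scheme along a small extension

* `exists_epi` : multiplication by a global function as an epimorphism onto an ideal sheaf;
* `exists_lift_of_epi` : `X₁ ⟶ X₀ ⟶ X` closed immersions, the ideal `J` of `X₀` square-zero and killed by the ideal of
  `X₁`, `X₁` of dimension at most one, `N ⟶ J` an epimorphism: if `H¹(X₁, Hom(g^*Ω, N|X₁)) = 0` then `g` extends;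
* `exists_lift_small` : families over a small extension of local rings.
-/

set_option autoImplicit false
universe u

open CategoryTheory CategoryTheory.Limits AlgebraicGeometry Opposite TopologicalSpace
open Groth.Agent Groth.Agent.CohqB.HomSheaf Groth.Agent.Sga2.PnHomAdj

namespace K314.Small

open K314.Lift

/-- Restriction of a global function. -/
abbrev gres {X : Scheme.{u}} (U : X.Opens) : Γ(X, ⊤) →+* Γ(X, U) :=
  (X.presheaf.map (homOfLE (le_top : U ≤ ⊤)).op).hom

/-- A section of the structure module as a function. -/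
def fn {X : Scheme.{u}} {U : X.Opens} (s : Γ(Coh.structureModule X, U)) : Γ(X, U) := s

/-- Multiplication by a global function, as an epimorphism onto an ideal sheaf. -/
theorem exists_epi {X : Scheme.{u}} (J : X.IdealSheafData) (a : Γ(X, ⊤)) {N : X.Modules}
    (n : N ⟶ Coh.structureModule X)
    (h : ∀ (U : X.affineOpens) (y : Γ(X, U.1)), y ∈ J.ideal U ↔
      ∃ m : Γ(N, U.1), gres U.1 a * fn (n.app U.1 m) = y) :
    ∃ ε : N ⟶ ClSub.idealMod J, Epi ε := by
  let μ : N ⟶ Coh.structureModule X := Formal.smulModΓ N a ≫ n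
  have hμ : ∀ (U : X.Opens) (m : Γ(N, U)), fn (μ.app U m) = gres U a * fn (n.app U m) := by
    intro U m
    change fn (n.app U ((Formal.smulModΓ N a).app U m)) = _
    have h1 : (Formal.smulModΓ N a).app U m = gres U a • m := rfl
    rw [h1]
    exact Scheme.Modules.Hom.app_smul n (gres U a) m
  have h0 : μ ≫ ClSub.toSubscheme J = 0 := by
    apply Scheme.Modules.hom_ext
    intro W
    ext m
    refine CohqA.H1Lift.eq_of_affine _ _ _ fun V hV => ?_
    have h1 : (μ ≫ ClSub.toSubscheme J).app V.1 (N.presheaf.map (homOfLE hV).op m) = 0 := by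
      change (ClSub.toSubscheme J).app V.1 (μ.app V.1 (N.presheaf.map (homOfLE hV).op m)) = 0
      refine (CohqA.IdealMod.toSubscheme_app_eq_zero_iff J V _).2 ?_
      change fn (μ.app V.1 (N.presheaf.map (homOfLE hV).op m)) ∈ J.ideal V
      rw [hμ]
      exact (h V _).2 ⟨_, rfl⟩
    rw [CohqA.H1Lift.naturality_apply] at h1
    refine h1.trans ?_
    exact (map_zero _).symm
  let ε : N ⟶ ClSub.idealMod J := kernel.lift _ μ h0
  have hε : ∀ (U : X.Opens) (m : Γ(N, U)), (ClSub.idealModι J).app U (ε.app U m) = μ.app U m := by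
    intro U m
    have := kernel.lift_ι (ClSub.toSubscheme J) μ h0
    exact congr(($this).app U m)
  refine ⟨ε, ?_⟩
  have hl : CohqA.H1Lift.LocSurj ε := by
    refine CohqA.H1Lift.locSurj_of_affine ε fun U y => ?_
    have hy : ((ClSub.idealModι J).app U.1 y : Γ(X, U.1)) ∈ J.ideal U :=
      (CohqA.IdealMod.exists_idealModι_app_iff J U _).1 ⟨y, rfl⟩
    obtain ⟨m, hm⟩ := (h U _).1 hy
    refine ⟨m, CohqA.IdealMod.idealModι_app_injective J U.1 ?_⟩
    rw [hε]
    exact (hμ U.1 m).trans hm
  have := CohqA.H1Lift.epi_toAb_of_locSurj ε hl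
  exact (CohqA.H1Lift.toAbF X).epi_of_epi_map this

/-- The ideal of `X₀` is killed by the ideal of `X₁`. -/
theorem killed {X : Scheme.{u}} (I J : X.IdealSheafData)
    (h : ∀ (U : X.affineOpens) (b c : Γ(X, U.1)), b ∈ I.ideal U → c ∈ J.ideal U → b * c = 0) :
    ClSub.KilledByIdeal I (ClSub.idealMod J) := by
  intro U b hb m
  refine CohqA.IdealMod.idealModι_app_injective J U.1 ?_
  have h0 : (ClSub.idealModι J).app U.1 (b • m) = b • (ClSub.idealModι J).app U.1 m :=
    Scheme.Modules.Hom.app_smul _ _ _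
  refine h0.trans (Eq.trans ?_ (map_zero ((ClSub.idealModι J).app U.1).hom).symm)
  exact h U b _ hb ((CohqA.IdealMod.exists_idealModι_app_iff J U _).1 ⟨m, rfl⟩)

/-- **Lifting along a square-zero closed immersion, one-dimensional support.** -/
theorem exists_lift_of_epi {X₁ X₀ X Y S : Scheme.{u}} (i : X₁ ⟶ X₀) [IsClosedImmersion i] (j : X₀ ⟶ X)
    [IsClosedImmersion j] (hI : j.ker ^ 2 = ⊥)
    (hkill : ∀ (U : X.affineOpens) (b c : Γ(X, U.1)), b ∈ (i ≫ j).ker.ideal U → c ∈ j.ker.ideal U → b * c = 0)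
    [IsNoetherian X₁] (hdim : topologicalKrullDim X₁ ≤ 1)
    {N : X.Modules} (ε : N ⟶ ClSub.idealMod j.ker) [Epi ε]
    (q : Y ⟶ S) [Smooth q] (g : X₀ ⟶ Y) (a : X ⟶ S) (w : j ≫ a = g ≫ q)
    {Ω : Y.Modules} (hΩ : FlatMod.IsFinLocFree Ω) {d : OmegaSh.Der q Ω} (hd : OmegaSh.IsUniversal d)
    (h1 : Subsingleton (Coh.HH X₁ (homSheaf ((Scheme.Modules.pullback (i ≫ g)).obj Ω)
      ((Scheme.Modules.pullback (i ≫ j)).obj N)) 1)) :
    ∃ b : X ⟶ Y, j ≫ b = g ∧ b ≫ q = a := by
  let P : X₁.Modules := (Scheme.Modules.pullback (i ≫ j)).obj (ClSub.idealMod j.ker)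
  have h2 := FormalA.ClosedImm.isIso_unit (i ≫ j) (killed (i ≫ j).ker j.ker hkill)
  let e : (Scheme.Modules.pushforward (i ≫ j)).obj P ≅ ClSub.idealMod j.ker :=
    (asIso ((Scheme.Modules.pullbackPushforwardAdjunction (i ≫ j)).unit.app (ClSub.idealMod j.ker))).symm
  refine exists_lift_closed i j hI e q g a w hd ?_
  have hE : FlatMod.IsFinLocFree ((Scheme.Modules.pullback (i ≫ g)).obj Ω) :=
    PerfB.FlatPull.isFinLocFree_pullback _ hΩ
  exact homSheaf_of_epi hdim hE ((Scheme.Modules.pullback (i ≫ j)).map ε) h1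

/-! ### Families over a small extension -/

/-- The functions on `Spec B'`, on a `B'`-scheme. -/
noncomputable def str {B' : Type u} [CommRing B'] {X' : Scheme.{u}} (q' : X' ⟶ Spec (CommRingCat.of B')) :
    B' →+* Γ(X', ⊤) :=
  (q'.appTop.hom).comp (Scheme.ΓSpecIso (CommRingCat.of B')).inv.hom

theorem ker_appTop_specMap {B' C : Type u} [CommRing B'] [CommRing C] (ψ : B' →+* C) :
    RingHom.ker ((Spec.map (CommRingCat.ofHom ψ)).app ⊤).hom =
      (RingHom.ker ψ).map (Scheme.ΓSpecIso (CommRingCat.of B')).inv.hom := by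
  have nat : ∀ b : B', (Spec.map (CommRingCat.ofHom ψ)).app ⊤ ((Scheme.ΓSpecIso (CommRingCat.of B')).inv b) =
      (Scheme.ΓSpecIso (CommRingCat.of C)).inv (ψ b) := by
    intro b
    have := Scheme.ΓSpecIso_inv_naturality (CommRingCat.ofHom ψ)
    exact (congr($this b)).symm
  refine le_antisymm (fun x hx => ?_) ?_
  · have hx1 : (Scheme.ΓSpecIso (CommRingCat.of B')).inv ((Scheme.ΓSpecIso (CommRingCat.of B')).hom x) = x := by
      have := (Scheme.ΓSpecIso (CommRingCat.of B')).hom_inv_id
      exact congr($this x)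
    have h2 := nat ((Scheme.ΓSpecIso (CommRingCat.of B')).hom x)
    rw [hx1] at h2
    have hx' : (Spec.map (CommRingCat.ofHom ψ)).app ⊤ x = 0 := hx
    rw [hx'] at h2
    have h3 : ψ ((Scheme.ΓSpecIso (CommRingCat.of B')).hom x) = 0 := by
      have h4 := congrArg (Scheme.ΓSpecIso (CommRingCat.of C)).hom h2
      have h5 : (Scheme.ΓSpecIso (CommRingCat.of C)).hom ((Scheme.ΓSpecIso (CommRingCat.of C)).inv
          (ψ ((Scheme.ΓSpecIso (CommRingCat.of B')).hom x))) = ψ ((Scheme.ΓSpecIso (CommRingCat.of B')).hom x) := by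
        have := (Scheme.ΓSpecIso (CommRingCat.of C)).inv_hom_id
        exact congr($this (ψ ((Scheme.ΓSpecIso (CommRingCat.of B')).hom x)))
      exact h5.symm.trans (h4.symm.trans (map_zero (Scheme.ΓSpecIso (CommRingCat.of C)).hom.hom))
    rw [← hx1]
    exact Ideal.mem_map_of_mem _ h3
  · rw [Ideal.map_le_iff_le_comap]
    intro b hb
    have hb' : ψ b = 0 := hb
    change (Spec.map (CommRingCat.ofHom ψ)).app ⊤ ((Scheme.ΓSpecIso (CommRingCat.of B')).inv b) = 0
    rw [nat, hb']
    exact map_zero (Scheme.ΓSpecIso (CommRingCat.of C)).inv.hom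

/-- The ideal of the base change of a closed subscheme of `Spec B'`. -/
theorem ker_app {B' C : Type u} [CommRing B'] [CommRing C] (ψ : B' →+* C) (hψ : Function.Surjective ψ)
    {X' Y : Scheme.{u}} {s : Y ⟶ X'} {p : Y ⟶ Spec (CommRingCat.of C)} {q' : X' ⟶ Spec (CommRingCat.of B')}
    (sq : IsPullback s p q' (Spec.map (CommRingCat.ofHom ψ))) (U : X'.affineOpens) :
    RingHom.ker (s.app U.1).hom = (RingHom.ker ψ).map ((gres U.1).comp (str q')) := by
  have : IsClosedImmersion (Spec.map (CommRingCat.ofHom ψ)) := IsClosedImmersion.spec_of_surjective _ hψ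
  have h := (Flat2C.Thick.surjective_app_and_ker_app sq (isAffineOpen_top _) U.2 le_top).2
  rw [h, ker_appTop_specMap, Ideal.map_map]
  rfl

section small

variable {B' B k : Type u} [CommRing B'] [CommRing B] [CommRing k] {φ : B' →+* B} {ρ : B →+* k} {t : B'}
  {P' P P₁ : Scheme.{u}} {π' : P' ⟶ Spec (CommRingCat.of B')} {π : P ⟶ Spec (CommRingCat.of B)}
  {π₁ : P₁ ⟶ Spec (CommRingCat.of k)} {j : P ⟶ P'} {i : P₁ ⟶ P}

theorem ker_comp_eq (hφ : Function.Surjective φ) (hρ : Function.Surjective ρ)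
    (sq : IsPullback j π π' (Spec.map (CommRingCat.ofHom φ)))
    (sq₁ : IsPullback i π₁ π (Spec.map (CommRingCat.ofHom ρ))) (U : P'.affineOpens) :
    RingHom.ker ((i ≫ j).app U.1).hom = (RingHom.ker (ρ.comp φ)).map ((gres U.1).comp (str π')) := by
  have sq' : IsPullback (i ≫ j) π₁ π' (Spec.map (CommRingCat.ofHom (ρ.comp φ))) := by
    have h := sq₁.paste_horiz sq
    rwa [← Spec.map_comp] at h
  exact ker_app (ρ.comp φ) (hρ.comp hφ) sq' U

/-- A multiple of the small element is killed by the ideal of the closed fibre. -/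
theorem mul_eq_zero_of_mem (hφ : Function.Surjective φ) (hρ : Function.Surjective ρ)
    (ht : ∀ b ∈ RingHom.ker (ρ.comp φ), b * t = 0)
    (sq : IsPullback j π π' (Spec.map (CommRingCat.ofHom φ)))
    (sq₁ : IsPullback i π₁ π (Spec.map (CommRingCat.ofHom ρ))) (U : P'.affineOpens) (b : Γ(P', U.1))
    (hb : b ∈ (i ≫ j).ker.ideal U) : b * gres U.1 (str π' t) = 0 := by
  have : IsClosedImmersion (Spec.map (CommRingCat.ofHom φ)) := IsClosedImmersion.spec_of_surjective _ hφ
  have : IsClosedImmersion (Spec.map (CommRingCat.ofHom ρ)) := IsClosedImmersion.spec_of_surjective _ hρ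
  have : IsClosedImmersion j := MorphismProperty.of_isPullback (P := @IsClosedImmersion) sq.flip inferInstance
  have : IsClosedImmersion i := MorphismProperty.of_isPullback (P := @IsClosedImmersion) sq₁.flip inferInstance
  rw [Scheme.Hom.ker_apply, ker_comp_eq hφ hρ sq sq₁ U] at hb
  induction hb using Submodule.span_induction with
  | mem b hb =>
    obtain ⟨m, hm, rfl⟩ := hb
    have h3 : ((gres U.1).comp (str π')) m * gres U.1 (str π' t) = ((gres U.1).comp (str π')) (m * t) := by
      rw [map_mul]; rfl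
    rw [h3, ht m hm, map_zero]
  | zero => rw [zero_mul]
  | add x y _ _ hx hy => rw [add_mul, hx, hy, add_zero]
  | smul r x _ hx => rw [smul_mul_assoc, hx, smul_zero]

/-- **Lifting along a small extension.** `B' → B → k` surjective, the kernel of `B' → B` generated by `t` which is
killed by the kernel of `B' → k`; `P' → Spec B'` with `P₁` the part over `k`, Noetherian of dimension at most one;
`q : Y ⟶ S` smooth. A morphism `g : P ⟶ Y` with `H¹(P₁, Hom(g^*Ω, O)) = 0` extends to `P'` over `S`. -/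
theorem exists_lift_small (hφ : Function.Surjective φ) (hρ : Function.Surjective ρ)
    (hk : RingHom.ker φ = Ideal.span {t}) (ht : ∀ b ∈ RingHom.ker (ρ.comp φ), b * t = 0)
    (sq : IsPullback j π π' (Spec.map (CommRingCat.ofHom φ)))
    (sq₁ : IsPullback i π₁ π (Spec.map (CommRingCat.ofHom ρ)))
    [IsNoetherian P₁] (hdim : topologicalKrullDim P₁ ≤ 1)
    {Y S : Scheme.{u}} (q : Y ⟶ S) [Smooth q] (g : P ⟶ Y) (a : P' ⟶ S) (w : j ≫ a = g ≫ q)
    {Ω : Y.Modules} (hΩ : FlatMod.IsFinLocFree Ω) {d : OmegaSh.Der q Ω} (hd : OmegaSh.IsUniversal d)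
    (h1 : Subsingleton (Coh.HH P₁ (homSheaf ((Scheme.Modules.pullback (i ≫ g)).obj Ω)
      (Coh.structureModule P₁)) 1)) :
    ∃ b : P' ⟶ Y, j ≫ b = g ∧ b ≫ q = a := by
  have : IsClosedImmersion (Spec.map (CommRingCat.ofHom φ)) := IsClosedImmersion.spec_of_surjective _ hφ
  have : IsClosedImmersion (Spec.map (CommRingCat.ofHom ρ)) := IsClosedImmersion.spec_of_surjective _ hρ
  have : IsClosedImmersion j := MorphismProperty.of_isPullback (P := @IsClosedImmersion) sq.flip inferInstance
  have : IsClosedImmersion i := MorphismProperty.of_isPullback (P := @IsClosedImmersion) sq₁.flip inferInstance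
  have hker : ∀ U : P'.affineOpens, j.ker.ideal U = Ideal.span {gres U.1 (str π' t)} := by
    intro U
    rw [Scheme.Hom.ker_apply, ker_app φ hφ sq U, hk, Ideal.map_span, Set.image_singleton]
    rfl
  have htt : t * t = 0 := ht t (by
    have : φ t = 0 := by
      have : t ∈ RingHom.ker φ := by rw [hk]; exact Ideal.mem_span_singleton_self t
      exact this
    rw [RingHom.mem_ker, RingHom.comp_apply, this, map_zero])
  have hI : j.ker ^ 2 = ⊥ := by
    refine Scheme.IdealSheafData.ext (funext fun U => ?_)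
    rw [Scheme.IdealSheafData.ideal_pow, Pi.pow_apply, hker U, Ideal.span_singleton_pow,
      pow_two, ← map_mul, ← map_mul, htt, map_zero, map_zero, Ideal.span_singleton_eq_bot.2 rfl]
    rfl
  obtain ⟨ε, hε⟩ := exists_epi j.ker (str π' t) (𝟙 (Coh.structureModule P')) (fun U y => by
    rw [hker U, Ideal.mem_span_singleton']
    constructor
    · rintro ⟨c, hc⟩
      exact ⟨c, (mul_comm _ _).trans hc⟩
    · rintro ⟨c, hc⟩
      exact ⟨fn c, (mul_comm _ _).trans hc⟩)
  refine exists_lift_of_epi i j hI (fun U b c hb hc => ?_) hdim ε q g a w hΩ hd ?_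
  · rw [hker U, Ideal.mem_span_singleton'] at hc
    obtain ⟨c, rfl⟩ := hc
    rw [mul_left_comm, mul_eq_zero_of_mem hφ hρ ht sq sq₁ U b hb, mul_zero]
  · exact hh_homSheaf_congr (Iso.refl _) (PerfB.FlatPull.pullbackUnit (i ≫ j)).symm 1 h1

end small

end K314.Small
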