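import Groth.Agent.MorSch.K314.MorScheme
import Groth.Agent.MorSch.K314.Small
import Groth.Agent.MorSch.K314.P1H1
import Groth.Agent.AlgSp.K633.SmallExtPt
import Groth.Agent.Models2.HHFiber
import Groth.Agent.S10829
import Groth.Agent.Ega3A.PChart
import Groth.Agent.Sga67.ClosedTens
import Groth.Agent.Lift.K696.OmFree
import Groth.Agent.S5005
import Groth.Agent.Fga.QD1Hilb
import Groth.Agent.PerfB.FlatPull
import Groth.Agent.PerfB.ResolQC
import Groth.Agent.Ega1.TensorRestrict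
import Groth.Agent.Gaga.H364.ProjRed
import Groth.Agent.Dix.ProjProper

/-!
# Smoothness of the scheme of morphisms from `P¹` at free curves

* `field_iff` : the vanishing of `H⁰(P¹, u^*Ω(a))` at a field-valued point of the scheme of morphisms, compared with the
  fibre of the universal family;
* `mem_smoothLocus` : the scheme of morphisms is smooth at a point where `H⁰(P¹, u^*Ω(a)) = 0` for some `a ≥ -2`.
-/

set_option autoImplicit false
universe u

open CategoryTheory CategoryTheory.Limits AlgebraicGeometry Opposite TopologicalSpace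
open Groth.Agent Groth.Agent.CohqB.HomSheaf Groth.Agent.CohqB.ProjBC

namespace K314.MorSmooth

open K314.MorScheme K314.Lift K314.Small K314.P1H1

noncomputable section

/-- `u^*Ω_{X/S} ⊗ pc^*O(a)`. -/
def twSh {R : Type u} [CommRing R] {X S P : Scheme.{u}} (f : X ⟶ S) (pc : P ⟶ CohB1.ProjSpace 1 R) (u : P ⟶ X)
    (a : ℤ) : P.Modules :=
  CohB1.tensorMod ((Scheme.Modules.pullback u).obj (Omega.sheaf f))
    ((Scheme.Modules.pullback pc).obj (Twist.twistProjSpace 1 R a))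

theorem isFinLocFree_tw (R : Type u) [CommRing R] (a : ℤ) : FlatMod.IsFinLocFree (Twist.twistProjSpace 1 R a) :=
  Groth.Agent.S5683.isFinLocFree_of_isInvertible (PerfB.TwistDer.isInvertible_tw 1 R a)

theorem isFinLocFree_twSh {R : Type u} [CommRing R] {X S P : Scheme.{u}} (f : X ⟶ S) [QuasiSeparated f] [Smooth f]
    (pc : P ⟶ CohB1.ProjSpace 1 R) (u : P ⟶ X) (a : ℤ) : FlatMod.IsFinLocFree (twSh f pc u a) :=
  Sga67.LocBasis.isFinLocFree_tensorMod (PerfB.FlatPull.isFinLocFree_pullback u (K696.OmFree.isFinLocFree_omega f))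
    (PerfB.FlatPull.isFinLocFree_pullback pc (isFinLocFree_tw R a))

/-- The pullback of `u^*Ω(a)` to `P¹` over a field. -/
theorem nonempty_pull {R : Type u} [CommRing R] {X S P : Scheme.{u}} (f : X ⟶ S) (pc : P ⟶ CohB1.ProjSpace 1 R)
    (u : P ⟶ X) (a : ℤ) {K : Type u} [CommRing K] (ψ : R →+* K) (h : CohB1.ProjSpace 1 K ⟶ P)
    (h1 : h ≫ pc = pmap ψ 1) :
    Nonempty ((Scheme.Modules.pullback h).obj (twSh f pc u a) ≅
      CohB1.tensorMod ((Scheme.Modules.pullback (h ≫ u)).obj (Omega.sheaf f)) (Twist.twistProjSpace 1 K a)) :=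
  ⟨(Sga67.ClosedTens.muIso h ((Scheme.Modules.pullback u).obj (Omega.sheaf f))).app
      ((Scheme.Modules.pullback pc).obj (Twist.twistProjSpace 1 R a)) ≪≫
    Ega2.Tens.mapTIso ((Scheme.Modules.pullbackComp h u).app _)
      ((Scheme.Modules.pullbackComp h pc).app _ ≪≫ (Scheme.Modules.pullbackCongr h1).app _ ≪≫
        Ega3A.PChart.pullTwistIso ψ 1 a)⟩

variable {R : Type u} [CommRing R] {X M P : Scheme.{u}} {f : X ⟶ Spec (CommRingCat.of R)}
  {m : M ⟶ Spec (CommRingCat.of R)} {pc : P ⟶ CohB1.ProjSpace 1 R} {pm : P ⟶ M} {u : P ⟶ X}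

theorem isPullback_point (sq : IsPullback pc pm (CohB1.ProjSpace.toSpec 1 R) m)
    {K : Type u} [CommRing K] (ψ : R →+* K) (x : Spec (CommRingCat.of K) ⟶ M)
    (hx : x ≫ m = Spec.map (CommRingCat.ofHom ψ)) (h : CohB1.ProjSpace 1 K ⟶ P) (h1 : h ≫ pc = pmap ψ 1)
    (h2 : h ≫ pm = CohB1.ProjSpace.toSpec 1 K ≫ x) :
    IsPullback h (CohB1.ProjSpace.toSpec 1 K) pm x := by
  refine IsPullback.of_right (h₁₂ := pc) (h₂₂ := m) ?_ h2 sq
  rw [h1, hx]
  exact isPullback_pmap ψ 1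

/-- The vanishing of `H⁰` at a field-valued point and at the fibre. -/
theorem field_iff [QuasiSeparated f] [Smooth f] (sq : IsPullback pc pm (CohB1.ProjSpace.toSpec 1 R) m) (a : ℤ)
    {K : Type u} [Field K] (ψ : R →+* K) (x : Spec (CommRingCat.of K) ⟶ M)
    (hx : x ≫ m = Spec.map (CommRingCat.ofHom ψ)) (h : CohB1.ProjSpace 1 K ⟶ P) (h1 : h ≫ pc = pmap ψ 1)
    (h2 : h ≫ pm = CohB1.ProjSpace.toSpec 1 K ≫ x) (μ : M) (hμ : x (IsLocalRing.closedPoint K) = μ) :
    Subsingleton (Coh.HH (CohB1.ProjSpace 1 K) (CohB1.tensorMod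
      ((Scheme.Modules.pullback (h ≫ u)).obj (Omega.sheaf f)) (Twist.twistProjSpace 1 K a)) 0) ↔
    Subsingleton (Coh.HH (pm.fiber μ) ((Scheme.Modules.pullback (pm.fiberι μ)).obj (twSh f pc u a)) 0) := by
  have hc : IsProper (CohB1.ProjSpace.toSpec 1 R) := Dix.ProjProper.isProper_toSpec 1 R
  have hpm : IsProper pm := MorphismProperty.of_isPullback sq hc
  obtain ⟨e⟩ := nonempty_pull f pc u a ψ h h1
  exact Models2.HHFiber.field_point pm x μ hμ h (CohB1.ProjSpace.toSpec 1 K) (isPullback_point sq ψ x hx h h1 h2) _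
    (PerfB.ResolQC.isQCoh_of_isFinLocFree (isFinLocFree_twSh f pc u a)) _ e 0

theorem isNoetherian_projSpace (k : Type u) [Field k] : IsNoetherian (CohB1.ProjSpace 1 k) := by
  have hc : IsProper (CohB1.ProjSpace.toSpec 1 k) := Dix.ProjProper.isProper_toSpec 1 k
  have h1 : IsLocallyNoetherian (CohB1.ProjSpace 1 k) := LocallyOfFiniteType.isLocallyNoetherian (CohB1.ProjSpace.toSpec 1 k)
  have h2 : CompactSpace (CohB1.ProjSpace 1 k) := QuasiCompact.compactSpace_of_compactSpace (CohB1.ProjSpace.toSpec 1 k)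
  exact {}

/-- **The scheme of morphisms from `P¹` is smooth at the free curves.** -/
theorem mem_smoothLocus [IsNoetherianRing R] [QuasiSeparated f] [Smooth f] [LocallyOfFiniteType m]
    (hM : IsMor (CohB1.ProjSpace.toSpec 1 R) f m pc pm u) (a : ℤ) (ha : -2 ≤ a) (μ : M)
    (hμ : Subsingleton (Coh.HH (pm.fiber μ) ((Scheme.Modules.pullback (pm.fiberι μ)).obj (twSh f pc u a)) 0)) :
    μ ∈ m.smoothLocus := by
  have : LocallyOfFinitePresentation m := LocallyOfFinitePresentation.iff_locallyOfFiniteType.2 inferInstance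
  refine K633.SmallExtPt.mem_smoothLocus_of_lifting m μ ?_
  intro B' B _ _ _ _ _ _ π hπ ht α β hα hαβ
  obtain ⟨t, hk, ht⟩ := ht
  obtain ⟨φ₁, rfl⟩ : ∃ φ₁ : R →+* B', Spec.map (CommRingCat.ofHom φ₁) = β :=
    ⟨(Spec.preimage β).hom, Spec.map_preimage β⟩
  have sqM := hM.sq
  let c := CohB1.ProjSpace.toSpec 1 R
  let ρ : B →+* IsLocalRing.ResidueField B := IsLocalRing.residue B
  let j := pmap π 1
  let i := pmap ρ 1
  have sq : IsPullback j (CohB1.ProjSpace.toSpec 1 B) (CohB1.ProjSpace.toSpec 1 B') (Spec.map (CommRingCat.ofHom π)) :=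
    isPullback_pmap π 1
  have sq₁ : IsPullback i (CohB1.ProjSpace.toSpec 1 (IsLocalRing.ResidueField B)) (CohB1.ProjSpace.toSpec 1 B)
      (Spec.map (CommRingCat.ofHom ρ)) := isPullback_pmap ρ 1
  have sq' : IsPullback (pmap φ₁ 1) (CohB1.ProjSpace.toSpec 1 B') c (Spec.map (CommRingCat.ofHom φ₁)) :=
    isPullback_pmap φ₁ 1
  have sqB : IsPullback (j ≫ pmap φ₁ 1) (CohB1.ProjSpace.toSpec 1 B) c
      (Spec.map (CommRingCat.ofHom π) ≫ Spec.map (CommRingCat.ofHom φ₁)) := sq.paste_horiz sq'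
  have w1 : (j ≫ pmap φ₁ 1) ≫ c = (CohB1.ProjSpace.toSpec 1 B ≫ α) ≫ m := by
    rw [sqB.w, hαβ, Category.assoc]
  let hB : CohB1.ProjSpace 1 B ⟶ P := sqM.lift (j ≫ pmap φ₁ 1) (CohB1.ProjSpace.toSpec 1 B ≫ α) w1
  have hB1 : hB ≫ pc = j ≫ pmap φ₁ 1 := sqM.lift_fst _ _ _
  have hB2 : hB ≫ pm = CohB1.ProjSpace.toSpec 1 B ≫ α := sqM.lift_snd _ _ _
  let g := hB ≫ u
  have w : j ≫ CohB1.ProjSpace.toSpec 1 B' ≫ Spec.map (CommRingCat.ofHom φ₁) = g ≫ f := by
    have e1 := sq.w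
    have e2 : g ≫ f = CohB1.ProjSpace.toSpec 1 B ≫ α ≫ m := by
      rw [Category.assoc, hM.comm, ← Category.assoc, hB2, Category.assoc]
    rw [e2, ← hαβ, ← Category.assoc, e1, Category.assoc]
  -- the closed fibre
  let ψ : R →+* IsLocalRing.ResidueField B := ρ.comp (π.comp φ₁)
  have hψ : i ≫ j ≫ pmap φ₁ 1 = pmap ψ 1 := by
    rw [Fga.QD1Hilb.pmap_comp, Fga.QD1Hilb.pmap_comp]
  have hx : (Spec.map (CommRingCat.ofHom ρ) ≫ α) ≫ m = Spec.map (CommRingCat.ofHom ψ) := by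
    rw [Category.assoc, ← hαβ, ← Spec.map_comp, ← Spec.map_comp]
    rfl
  have hx0 : (Spec.map (CommRingCat.ofHom ρ) ≫ α) (IsLocalRing.closedPoint (IsLocalRing.ResidueField B)) = μ := by
    refine Eq.trans ?_ hα
    have h3 : (Spec.map (CommRingCat.ofHom ρ)) (IsLocalRing.closedPoint (IsLocalRing.ResidueField B)) =
        IsLocalRing.closedPoint B := IsLocalRing.comap_closedPoint ρ
    exact (Scheme.Hom.comp_apply _ _ _).trans (congrArg α h3)
  have h0 := (field_iff (u := u) (f := f) sqM a ψ (Spec.map (CommRingCat.ofHom ρ) ≫ α) hx (i ≫ hB)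
    (by rw [Category.assoc, hB1, hψ])
    (by rw [Category.assoc, hB2, ← Category.assoc, sq₁.w, Category.assoc]) μ hx0).2 hμ
  have hig : (i ≫ hB) ≫ u = i ≫ g := Category.assoc _ _ _
  rw [hig] at h0
  have hE : FlatMod.IsFinLocFree ((Scheme.Modules.pullback (i ≫ g)).obj (Omega.sheaf f)) :=
    PerfB.FlatPull.isFinLocFree_pullback _ (K696.OmFree.isFinLocFree_omega f)
  have h1 := h1_of_h0 hE a ha h0
  have hN := isNoetherian_projSpace (IsLocalRing.ResidueField B)
  have hdim : topologicalKrullDim (CohB1.ProjSpace 1 (IsLocalRing.ResidueField B)) ≤ 1 := by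
    rw [Groth.Agent.S10829.result (IsLocalRing.ResidueField B) 1]
    exact le_of_eq (by norm_num)
  obtain ⟨b, hb1, hb2⟩ := exists_lift_small hπ IsLocalRing.residue_surjective hk
    (fun b hb => ht b (by
      rw [IsLocalRing.mem_maximalIdeal, mem_nonunits_iff]
      intro hu
      have h2 := (hu.map π).map ρ
      rw [RingHom.mem_ker, RingHom.comp_apply] at hb
      rw [hb] at h2
      exact not_isUnit_zero h2)) sq sq₁ hdim f g _ w (K696.OmFree.isFinLocFree_omega f)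
    (Groth.Agent.S5005.result f) h1
  -- the point over `B'`
  obtain ⟨γ, ⟨hγ1, hγ2⟩, -⟩ := hM.existsUnique (T := Spec (CommRingCat.of B')) (Spec.map (CommRingCat.ofHom φ₁))
    (pmap φ₁ 1) (CohB1.ProjSpace.toSpec 1 B') sq' b hb2
  refine ⟨γ, ?_, hγ1⟩
  obtain ⟨γ', -, hu'⟩ := hM.existsUnique (T := Spec (CommRingCat.of B))
    (Spec.map (CommRingCat.ofHom π) ≫ Spec.map (CommRingCat.ofHom φ₁)) (j ≫ pmap φ₁ 1) (CohB1.ProjSpace.toSpec 1 B) sqB g
    (by rw [← w, ← Category.assoc, sq.w, Category.assoc])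
  have hγw : (pmap φ₁ 1) ≫ c = (CohB1.ProjSpace.toSpec 1 B' ≫ γ) ≫ m := by
    rw [sq'.w, Category.assoc, hγ1]
  let h' : CohB1.ProjSpace 1 B' ⟶ P := sqM.lift (pmap φ₁ 1) (CohB1.ProjSpace.toSpec 1 B' ≫ γ) hγw
  have h'1 : h' ≫ pc = pmap φ₁ 1 := sqM.lift_fst _ _ _
  have h'2 : h' ≫ pm = CohB1.ProjSpace.toSpec 1 B' ≫ γ := sqM.lift_snd _ _ _
  have h'u : h' ≫ u = b := hγ2 h' h'1 h'2
  have e1 : Spec.map (CommRingCat.ofHom π) ≫ γ = γ' := by
    refine hu' _ ⟨by rw [Category.assoc, hγ1], fun h hh1 hh2 => ?_⟩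
    have : h = j ≫ h' := by
      apply sqM.hom_ext
      · rw [hh1, Category.assoc, h'1]
      · rw [hh2, Category.assoc, h'2, ← Category.assoc, ← Category.assoc, sq.w]
    rw [this, Category.assoc, h'u, hb1]
  have e2 : α = γ' := by
    refine hu' _ ⟨hαβ.symm, fun h hh1 hh2 => ?_⟩
    have : h = hB := by
      apply sqM.hom_ext
      · rw [hh1, hB1]
      · rw [hh2, hB2]
    rw [this]
  rw [e1, e2]

end

end K314.MorSmooth
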