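import Groth.Agent.QCohSub.K582.SupPush

/-!
# Gluing morphisms along a union of two closed subschemes
-/

set_option autoImplicit false
universe u

open CategoryTheory CategoryTheory.Limits AlgebraicGeometry

namespace K314.Glue

/-- **Morphisms on two closed subschemes agreeing on the intersection glue to the union.** -/
theorem exists_glue {X Y Z₁ Z₂ W : Scheme.{u}} (i₁ : Z₁ ⟶ X) (i₂ : Z₂ ⟶ X) [IsClosedImmersion i₁]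
    [IsClosedImmersion i₂] {p₁ : W ⟶ Z₁} {p₂ : W ⟶ Z₂} (sq : IsPullback p₁ p₂ i₁ i₂) (g₁ : Z₁ ⟶ Y) (g₂ : Z₂ ⟶ Y)
    (h : p₁ ≫ g₁ = p₂ ≫ g₂) :
    ∃ (u₁ : Z₁ ⟶ (i₁.ker ⊓ i₂.ker).subscheme) (u₂ : Z₂ ⟶ (i₁.ker ⊓ i₂.ker).subscheme)
      (g : (i₁.ker ⊓ i₂.ker).subscheme ⟶ Y),
      u₁ ≫ (i₁.ker ⊓ i₂.ker).subschemeι = i₁ ∧ u₂ ≫ (i₁.ker ⊓ i₂.ker).subschemeι = i₂ ∧ u₁ ≫ g = g₁ ∧ u₂ ≫ g = g₂ ∧
      ∀ {S : Scheme.{u}} (q : Y ⟶ S) (a : X ⟶ S), i₁ ≫ a = g₁ ≫ q → i₂ ≫ a = g₂ ≫ q →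
        (i₁.ker ⊓ i₂.ker).subschemeι ≫ a = g ≫ q := by
  have hpo := K582.SupPush.isPushout i₁.ker i₂.ker
  let r₁ : (i₁.ker ⊔ i₂.ker).subscheme ⟶ Z₁ :=
    Scheme.IdealSheafData.inclusion (le_sup_left : i₁.ker ≤ i₁.ker ⊔ i₂.ker) ≫ inv i₁.toImage
  let r₂ : (i₁.ker ⊔ i₂.ker).subscheme ⟶ Z₂ :=
    Scheme.IdealSheafData.inclusion (le_sup_right : i₂.ker ≤ i₁.ker ⊔ i₂.ker) ≫ inv i₂.toImage
  have e₁ : inv i₁.toImage ≫ i₁ = i₁.ker.subschemeι := by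
    rw [IsIso.inv_comp_eq]; exact i₁.toImage_imageι.symm
  have e₂ : inv i₂.toImage ≫ i₂ = i₂.ker.subschemeι := by
    rw [IsIso.inv_comp_eq]; exact i₂.toImage_imageι.symm
  have hr₁ : r₁ ≫ i₁ = (i₁.ker ⊔ i₂.ker).subschemeι := by
    rw [Category.assoc, e₁, Scheme.IdealSheafData.inclusion_subschemeι]
  have hr₂ : r₂ ≫ i₂ = (i₁.ker ⊔ i₂.ker).subschemeι := by
    rw [Category.assoc, e₂, Scheme.IdealSheafData.inclusion_subschemeι]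
  let l := sq.lift r₁ r₂ (hr₁.trans hr₂.symm)
  have hl₁ : l ≫ p₁ = r₁ := sq.lift_fst _ _ _
  have hl₂ : l ≫ p₂ = r₂ := sq.lift_snd _ _ _
  have hw : Scheme.IdealSheafData.inclusion (le_sup_left : i₁.ker ≤ i₁.ker ⊔ i₂.ker) ≫ inv i₁.toImage ≫ g₁ =
      Scheme.IdealSheafData.inclusion (le_sup_right : i₂.ker ≤ i₁.ker ⊔ i₂.ker) ≫ inv i₂.toImage ≫ g₂ := by
    have : r₁ ≫ g₁ = r₂ ≫ g₂ := by rw [← hl₁, ← hl₂, Category.assoc, Category.assoc, h]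
    exact (Category.assoc _ _ _).symm.trans (this.trans (Category.assoc _ _ _))
  let g := hpo.desc (inv i₁.toImage ≫ g₁) (inv i₂.toImage ≫ g₂) hw
  have hg₁ : Scheme.IdealSheafData.inclusion (inf_le_left : i₁.ker ⊓ i₂.ker ≤ i₁.ker) ≫ g = inv i₁.toImage ≫ g₁ :=
    hpo.inl_desc _ _ _
  have hg₂ : Scheme.IdealSheafData.inclusion (inf_le_right : i₁.ker ⊓ i₂.ker ≤ i₂.ker) ≫ g = inv i₂.toImage ≫ g₂ :=
    hpo.inr_desc _ _ _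
  refine ⟨i₁.toImage ≫ Scheme.IdealSheafData.inclusion inf_le_left,
    i₂.toImage ≫ Scheme.IdealSheafData.inclusion inf_le_right, g, ?_, ?_, ?_, ?_, ?_⟩
  · rw [Category.assoc, Scheme.IdealSheafData.inclusion_subschemeι]; exact i₁.toImage_imageι
  · rw [Category.assoc, Scheme.IdealSheafData.inclusion_subschemeι]; exact i₂.toImage_imageι
  · rw [Category.assoc, hg₁, IsIso.hom_inv_id_assoc]
  · rw [Category.assoc, hg₂, IsIso.hom_inv_id_assoc]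
  · intro S q a h₁ h₂
    apply hpo.hom_ext
    · rw [← Category.assoc, Scheme.IdealSheafData.inclusion_subschemeι, ← Category.assoc, hg₁, ← e₁, Category.assoc,
        Category.assoc, h₁]
    · rw [← Category.assoc, Scheme.IdealSheafData.inclusion_subschemeι, ← Category.assoc, hg₂, ← e₂, Category.assoc,
        Category.assoc, h₂]

theorem exists_glue' {X Y Z₁ Z₂ W : Scheme.{u}} (i₁ : Z₁ ⟶ X) (i₂ : Z₂ ⟶ X) [IsClosedImmersion i₁]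
    [IsClosedImmersion i₂] {p₁ : W ⟶ Z₁} {p₂ : W ⟶ Z₂} (sq : IsPullback p₁ p₂ i₁ i₂) (g₁ : Z₁ ⟶ Y) (g₂ : Z₂ ⟶ Y)
    (h : p₁ ≫ g₁ = p₂ ≫ g₂) (K : X.IdealSheafData) (hK : K = i₁.ker ⊓ i₂.ker) :
    ∃ (u₁ : Z₁ ⟶ K.subscheme) (u₂ : Z₂ ⟶ K.subscheme) (g : K.subscheme ⟶ Y),
      u₁ ≫ K.subschemeι = i₁ ∧ u₂ ≫ K.subschemeι = i₂ ∧ u₁ ≫ g = g₁ ∧ u₂ ≫ g = g₂ ∧
      ∀ {S : Scheme.{u}} (q : Y ⟶ S) (a : X ⟶ S), i₁ ≫ a = g₁ ≫ q → i₂ ≫ a = g₂ ≫ q →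
        K.subschemeι ≫ a = g ≫ q := by
  subst hK
  exact exists_glue i₁ i₂ sq g₁ g₂ h

end K314.Glue
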