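import Groth.Agent.MorSch.K314.Small
import Groth.Agent.MorSch.K314.Glue
import Mathlib.RingTheory.Flat.EquationalCriterion

/-!
# Lifting along a small extension with prescribed values on a flat closed subscheme
-/

set_option autoImplicit false
universe u

open CategoryTheory CategoryTheory.Limits AlgebraicGeometry Opposite TopologicalSpace
open Groth.Agent Groth.Agent.CohqB.HomSheaf Groth.Agent.Sga2.PnHomAdj

namespace K314.Pointed

open K314.Lift K314.Small

/-- In a flat algebra, an element killed by `t` is a combination of elements of the base killed by `t`. -/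
theorem exists_of_mul_eq_zero {B R : Type u} [CommRing B] [CommRing R] (f : B →+* R) (hf : f.Flat) (t : B) (c : R)
    (h : f t * c = 0) : ∃ (n : ℕ) (b : Fin n → B) (r : Fin n → R), (∀ l, b l * t = 0) ∧ c = ∑ l, f (b l) * r l := by
  algebraize [f]
  have h1 := (Module.Flat.tfae_equational_criterion B R).out 0 3
  have h2 : ∑ l : Fin 1, (fun _ => t) l • (fun _ => c) l = 0 := by
    rw [Finset.univ_unique, Finset.sum_singleton, Algebra.smul_def]
    exact h
  obtain ⟨k, a, y, h3, h4⟩ := h1.1 inferInstance h2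
  refine ⟨k, fun l => a 0 l, y, fun l => ?_, ?_⟩
  · have := h4 l
    simp only [Finset.univ_unique, Fin.default_eq_zero, Finset.sum_singleton] at this
    rw [mul_comm]
    exact this
  · have := h3 0
    simp only [Algebra.smul_def] at this
    exact this

section

variable {B' : Type u} [CommRing B'] {t : B'} {P' T' : Scheme.{u}} {π' : P' ⟶ Spec (CommRingCat.of B')}

theorem flat_str (σ : T' ⟶ P') [IsClosedImmersion σ] [Flat (σ ≫ π')] (U : P'.affineOpens) :
    (((σ.app U.1).hom.comp (gres U.1)).comp (str π')).Flat := by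
  have e : σ ⁻¹ᵁ U.1 ≤ (σ ≫ π') ⁻¹ᵁ (⊤ : (Spec (CommRingCat.of B')).Opens) := fun _ _ => trivial
  have h1 := HasRingHomProperty.appLE @Flat (σ ≫ π') inferInstance ⟨⊤, isAffineOpen_top _⟩
    ⟨σ ⁻¹ᵁ U.1, U.2.preimage σ⟩ e
  have h3 : π'.appTop ≫ P'.presheaf.map (homOfLE (le_top : U.1 ≤ ⊤)).op ≫ σ.app U.1 =
      (σ ≫ π').appLE ⊤ (σ ⁻¹ᵁ U.1) e := by
    refine Eq.trans ?_ (Scheme.Hom.comp_appLE σ π' ⊤ (σ ⁻¹ᵁ U.1) e).symm
    refine congrArg (π'.appTop ≫ ·) ?_
    have h4 := σ.map_appLE (le_refl (σ ⁻¹ᵁ U.1)) (homOfLE (le_top : U.1 ≤ ⊤)).op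
    rw [σ.app_eq_appLE]
    exact h4
  have h2 : ((σ.app U.1).hom.comp (gres U.1)).comp (str π') =
      ((σ ≫ π').appLE ⊤ (σ ⁻¹ᵁ U.1) e).hom.comp (Scheme.ΓSpecIso (CommRingCat.of B')).inv.hom := by
    rw [← h3]
    rfl
  rw [h2]
  exact RingHom.Flat.comp (RingHom.Flat.of_bijective (ConcreteCategory.bijective_of_isIso _)) h1

theorem mem_inf_iff (σ : T' ⟶ P') [IsClosedImmersion σ] [Flat (σ ≫ π')] (U : P'.affineOpens) (y : Γ(P', U.1)) :
    (y ∈ Ideal.span {gres U.1 (str π' t)} ∧ y ∈ σ.ker.ideal U) ↔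
      ∃ c ∈ σ.ker.ideal U, gres U.1 (str π' t) * c = y := by
  constructor
  · rintro ⟨h1, h2⟩
    rw [Ideal.mem_span_singleton'] at h1
    obtain ⟨c, rfl⟩ := h1
    rw [Scheme.Hom.ker_apply, RingHom.mem_ker, map_mul, mul_comm] at h2
    obtain ⟨n, b, r, hb, hr⟩ := exists_of_mul_eq_zero _ (flat_str (π' := π') σ U) t ((σ.app U.1).hom c) h2
    choose r' hr' using fun l => σ.app_surjective U.1 U.2 (r l)
    refine ⟨c - ∑ l, gres U.1 (str π' (b l)) * r' l, ?_, ?_⟩
    · rw [Scheme.Hom.ker_apply, RingHom.mem_ker, map_sub, map_sum, hr, sub_eq_zero]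
      refine Finset.sum_congr rfl fun l _ => ?_
      rw [map_mul]
      congr 1
      exact (hr' l).symm
    · rw [mul_sub, Finset.mul_sum, Finset.sum_eq_zero, sub_zero, mul_comm]
      intro l _
      rw [← mul_assoc, ← map_mul, ← map_mul, mul_comm t, hb l, map_zero, map_zero, zero_mul]
  · rintro ⟨c, hc, rfl⟩
    exact ⟨Ideal.mem_span_singleton'.2 ⟨c, mul_comm _ _⟩, Ideal.mul_mem_left _ _ hc⟩

end

section

variable {B' B k : Type u} [CommRing B'] [CommRing B] [CommRing k] {φ : B' →+* B} {ρ : B →+* k} {t : B'}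
  {P' P P₁ : Scheme.{u}} {π' : P' ⟶ Spec (CommRingCat.of B')} {π : P ⟶ Spec (CommRingCat.of B)}
  {π₁ : P₁ ⟶ Spec (CommRingCat.of k)} {j : P ⟶ P'} {i : P₁ ⟶ P}

/-- **Lifting along a small extension with prescribed values.** In the situation of `exists_lift_small`, let
`σ : T' ⟶ P'` be a closed subscheme flat over `B'` and `x : T' ⟶ Y` a morphism agreeing with `g` on `T' ×_{P'} P`. If
`H¹(P₁, Hom(g^*Ω, I_σ|P₁)) = 0` then there is an extension `b` of `g` to `P'` with `σ ≫ b = x`. -/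
theorem exists_lift_small_pointed (hφ : Function.Surjective φ) (hρ : Function.Surjective ρ)
    (hk : RingHom.ker φ = Ideal.span {t}) (ht : ∀ b ∈ RingHom.ker (ρ.comp φ), b * t = 0)
    (sq : IsPullback j π π' (Spec.map (CommRingCat.ofHom φ)))
    (sq₁ : IsPullback i π₁ π (Spec.map (CommRingCat.ofHom ρ)))
    [IsNoetherian P₁] (hdim : topologicalKrullDim P₁ ≤ 1)
    {T' T : Scheme.{u}} (σ : T' ⟶ P') [IsClosedImmersion σ] [Flat (σ ≫ π')] {p₁ : T ⟶ P} {p₂ : T ⟶ T'}
    (sqT : IsPullback p₁ p₂ j σ)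
    {Y S : Scheme.{u}} (q : Y ⟶ S) [Smooth q] (g : P ⟶ Y) (a : P' ⟶ S) (w : j ≫ a = g ≫ q)
    (x : T' ⟶ Y) (wx : σ ≫ a = x ≫ q) (hx : p₁ ≫ g = p₂ ≫ x)
    {Ω : Y.Modules} (hΩ : FlatMod.IsFinLocFree Ω) {d : OmegaSh.Der q Ω} (hd : OmegaSh.IsUniversal d)
    (h1 : Subsingleton (Coh.HH P₁ (homSheaf ((Scheme.Modules.pullback (i ≫ g)).obj Ω)
      ((Scheme.Modules.pullback (i ≫ j)).obj (ClSub.idealMod σ.ker))) 1)) :
    ∃ b : P' ⟶ Y, j ≫ b = g ∧ σ ≫ b = x ∧ b ≫ q = a := by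
  have : IsClosedImmersion (Spec.map (CommRingCat.ofHom φ)) := IsClosedImmersion.spec_of_surjective _ hφ
  have : IsClosedImmersion (Spec.map (CommRingCat.ofHom ρ)) := IsClosedImmersion.spec_of_surjective _ hρ
  have : IsClosedImmersion j := MorphismProperty.of_isPullback (P := @IsClosedImmersion) sq.flip inferInstance
  have : IsClosedImmersion i := MorphismProperty.of_isPullback (P := @IsClosedImmersion) sq₁.flip inferInstance
  have hker : ∀ U : P'.affineOpens, j.ker.ideal U = Ideal.span {gres U.1 (str π' t)} := by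
    intro U
    rw [Scheme.Hom.ker_apply, ker_app φ hφ sq U, hk, Ideal.map_span, Set.image_singleton]
    rfl
  have htt : t * t = 0 := ht t (by
    have : φ t = 0 := by
      have : t ∈ RingHom.ker φ := by rw [hk]; exact Ideal.mem_span_singleton_self t
      exact this
    rw [RingHom.mem_ker, RingHom.comp_apply, this, map_zero])
  obtain ⟨K, hK⟩ : ∃ K : P'.IdealSheafData, K = j.ker ⊓ σ.ker := ⟨_, rfl⟩
  obtain ⟨u₁, u₂, g', hu₁, hu₂, hg₁, hg₂, hq⟩ := Glue.exists_glue' j σ sqT g x hx K hK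
  have hKι : K.subschemeι.ker = K := K.ker_subschemeι
  have hmem : ∀ (U : P'.affineOpens) (y : Γ(P', U.1)), y ∈ K.ideal U ↔
      ∃ c ∈ σ.ker.ideal U, gres U.1 (str π' t) * c = y := by
    intro U y
    rw [← mem_inf_iff (π' := π') (t := t) σ U y, ← hker U, hK]
    rfl
  have hI : K.subschemeι.ker ^ 2 = ⊥ := by
    rw [hKι]
    refine Scheme.IdealSheafData.ext (funext fun U => ?_)
    rw [Scheme.IdealSheafData.ideal_pow, Pi.pow_apply, pow_two]
    refine le_antisymm (Ideal.mul_le.2 ?_) bot_le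
    intro y hy z hz
    obtain ⟨c, -, rfl⟩ := (hmem U y).1 hy
    obtain ⟨c', -, rfl⟩ := (hmem U z).1 hz
    rw [mul_mul_mul_comm, ← map_mul, ← map_mul, htt, map_zero, map_zero, zero_mul]
    exact Ideal.zero_mem _
  have hi : (i ≫ u₁) ≫ K.subschemeι = i ≫ j := by rw [Category.assoc, hu₁]
  have : IsClosedImmersion ((i ≫ u₁) ≫ K.subschemeι) := by rw [hi]; infer_instance
  have : IsClosedImmersion (i ≫ u₁) := IsClosedImmersion.of_comp_isClosedImmersion (i ≫ u₁) K.subschemeι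
  obtain ⟨ε, hε⟩ := exists_epi K.subschemeι.ker (str π' t) (ClSub.idealModι σ.ker) (fun U y => by
    rw [hKι, hmem U y]
    constructor
    · rintro ⟨c, hc, rfl⟩
      obtain ⟨m, hm⟩ := (CohqA.IdealMod.exists_idealModι_app_iff σ.ker U c).2 hc
      exact ⟨m, by rw [hm]; rfl⟩
    · rintro ⟨m, hm⟩
      exact ⟨_, (CohqA.IdealMod.exists_idealModι_app_iff σ.ker U _).1 ⟨m, rfl⟩, hm⟩)
  obtain ⟨b, hb₁, hb₂⟩ := exists_lift_of_epi (i ≫ u₁) K.subschemeι hI (fun U b c hb hc => by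
      rw [hi] at hb
      rw [hKι, hmem U c] at hc
      obtain ⟨c, -, rfl⟩ := hc
      rw [← mul_assoc, mul_eq_zero_of_mem hφ hρ ht sq sq₁ U b hb, zero_mul]) hdim ε q g' a (hq q a w wx) hΩ hd (by
      have e1 : (i ≫ u₁) ≫ g' = i ≫ g := by rw [Category.assoc, hg₁]
      exact hh_homSheaf_congr ((Scheme.Modules.pullbackCongr e1).symm.app Ω)
        ((Scheme.Modules.pullbackCongr hi).symm.app _) 1 h1)
  refine ⟨b, ?_, ?_, hb₂⟩
  · rw [← hu₁, Category.assoc, hb₁, hg₁]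
  · rw [← hu₂, Category.assoc, hb₁, hg₂]

end

end K314.Pointed
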