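import Groth.Agent.MorSch.K314.EvOne
import Groth.Prelude.Def_MorSch

/-!
# Smoothness of the evaluation map at free curves, for the universal pair of `MorSch`
-/

set_option autoImplicit false
universe u

open CategoryTheory CategoryTheory.Limits AlgebraicGeometry Opposite TopologicalSpace
open Groth.Agent Groth.Agent.CohqB.HomSheaf Groth.Agent.CohqB.ProjBC

namespace K314.EvFree

open K314.MorScheme K314.MorSmooth

theorem pmap_id (A : Type u) [CommRing A] (n : ℕ) : pmap (RingHom.id A) n = 𝟙 (CohB1.ProjSpace n A) := by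
  have h1 : pmap (RingHom.id A) n ≫ pmap (RingHom.id A) n = pmap (RingHom.id A) n := by
    rw [← Groth.Agent.Fga.QD1Hilb.pmap_comp]
    rfl
  have h2 : IsIso (Spec.map (CommRingCat.ofHom (RingHom.id A))) := by
    rw [CommRingCat.ofHom_id, Spec.map_id]
    infer_instance
  have h3 : IsIso (pmap (RingHom.id A) n) := (isPullback_pmap (RingHom.id A) n).isIso_fst_of_isIso
  rw [← cancel_epi (pmap (RingHom.id A) n), h1, Category.comp_id]

theorem isMor_of_isUniversal {Y X S : Scheme.{u}} (p : Y ⟶ S) (q : X ⟶ S) (M : Over S) (u : MorSch.Obj p q M)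
    (hM : MorSch.IsUniversal p q M u) : IsMor p q M.hom (pullback.fst p M.hom) (pullback.snd p M.hom) u.1 where
  sq := IsPullback.of_hasPullback p M.hom
  comm := by rw [u.2, pullback.condition]
  existsUnique := by
    intro T Q _ t qc qt sq a ha
    let T' : Over S := Over.mk t
    let e : PicF.XT p T' ≅ Q := (IsPullback.isoPullback sq).symm
    have e1 : e.hom ≫ qc = pullback.fst p t := IsPullback.isoPullback_inv_fst sq
    have e2 : e.hom ≫ qt = pullback.snd p t := IsPullback.isoPullback_inv_snd sq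
    have e1' : e.inv ≫ pullback.fst p t = qc := IsPullback.isoPullback_hom_fst sq
    have e2' : e.inv ≫ pullback.snd p t = qt := IsPullback.isoPullback_hom_snd sq
    let φ : MorSch.Obj p q T' := ⟨e.hom ≫ a, by
      rw [Category.assoc, ha, ← Category.assoc, e2]
      exact pullback.condition.symm⟩
    obtain ⟨g, hg, hu⟩ := hM T' φ
    have key : ∀ g' : T' ⟶ M, MorSch.pull p q g' u = φ ↔
        ∀ h : Q ⟶ PicF.XT p M, h ≫ pullback.fst p M.hom = qc → h ≫ pullback.snd p M.hom = qt ≫ g'.left →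
          h ≫ u.1 = a := by
      intro g'
      have h1 : PicF.XTmap p g' ≫ pullback.fst p M.hom = pullback.fst p t := MorSch.XTmap_fst p g'
      have h2 : PicF.XTmap p g' ≫ pullback.snd p M.hom = pullback.snd p t ≫ g'.left := by
        simp only [PicF.XTmap, pullback.map, pullback.lift_snd]
        rfl
      constructor
      · intro H h hh1 hh2
        have h3 : h = e.inv ≫ PicF.XTmap p g' := by
          apply pullback.hom_ext
          · rw [hh1, Category.assoc, h1, e1']
          · rw [hh2, Category.assoc, h2, ← Category.assoc, e2']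
        have h4 : PicF.XTmap p g' ≫ u.1 = e.hom ≫ a := congrArg Subtype.val H
        rw [h3, Category.assoc, h4, Iso.inv_hom_id_assoc]
      · intro H
        apply MorSch.Obj.ext
        have h3 := H (e.inv ≫ PicF.XTmap p g') (by rw [Category.assoc, h1, e1'])
          (by rw [Category.assoc, h2, ← Category.assoc, e2'])
        change PicF.XTmap p g' ≫ u.1 = e.hom ≫ a
        rw [← h3, Category.assoc, Iso.hom_inv_id_assoc]
    refine ⟨g.left, ⟨Over.w g, (key g).1 hg⟩, ?_⟩
    rintro g' ⟨h1, h2⟩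
    have h3 : (Over.homMk g' h1 : T' ⟶ M) = g := hu _ ((key (Over.homMk g' h1)).2 h2)
    exact congrArg CommaMorphism.left h3

theorem main (k : Type u) [Field k] (X : Scheme.{u}) (pX : X ⟶ Spec (CommRingCat.of k)) [IsIntegral X] [Smooth pX]
    (hqs : QuasiSeparated pX)
    (M : Over (Spec (CommRingCat.of k))) [LocallyOfFiniteType M.hom] (u : MorSch.Obj (CohB1.ProjSpace.toSpec 1 k) pX M)
    (hM : MorSch.IsUniversal (CohB1.ProjSpace.toSpec 1 k) pX M u)
    (f : CohB1.ProjSpace 1 k ⟶ X) (hf : f ≫ pX = CohB1.ProjSpace.toSpec 1 k)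
    (hfree : Subsingleton (Coh.HH (CohB1.ProjSpace 1 k) (CohB1.tensorMod ((Scheme.Modules.pullback f).obj (Omega.sheaf pX))
      (Twist.twistProjSpace 1 k (-1))) 0))
    (z : ↥(PicF.XT (CohB1.ProjSpace.toSpec 1 k) M))
    (hz : (PicF.XTproj (CohB1.ProjSpace.toSpec 1 k) M).base z ∈
      Set.range (hM.lift (MorSch.Obj.ofHom (CohB1.ProjSpace.toSpec 1 k) pX f hf)).left.base) :
    ∃ U : (PicF.XT (CohB1.ProjSpace.toSpec 1 k) M).Opens, z ∈ U ∧
      Smooth (U.ι ≫ MorSch.ev (CohB1.ProjSpace.toSpec 1 k) pX u) := by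
  have hI := isMor_of_isUniversal (CohB1.ProjSpace.toSpec 1 k) pX M u hM
  have hX : IsLocallyNoetherian X := LocallyOfFiniteType.isLocallyNoetherian pX
  have hc : IsProper (CohB1.ProjSpace.toSpec 1 k) := Dix.ProjProper.isProper_toSpec 1 k
  have h1 : LocallyOfFiniteType (u.1 ≫ pX) := by rw [u.2, pullback.condition]; infer_instance
  have h2 : LocallyOfFiniteType u.1 := locallyOfFiniteType_of_comp u.1 pX
  have h3 : LocallyOfFinitePresentation u.1 := LocallyOfFinitePresentation.iff_locallyOfFiniteType.2 h2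
  -- the point `[f]`
  let φ := MorSch.Obj.ofHom (CohB1.ProjSpace.toSpec 1 k) pX f hf
  let x : Spec (CommRingCat.of k) ⟶ M.left := (hM.lift φ).left
  have hx : x ≫ M.hom = 𝟙 _ := Over.w (hM.lift φ)
  have hx' : x ≫ M.hom = Spec.map (CommRingCat.ofHom (RingHom.id k)) := by
    rw [hx]
    exact (Spec.map_id _).symm
  obtain ⟨y, hy⟩ := hz
  have hy0 : y = IsLocalRing.closedPoint k := Subsingleton.elim (α := PrimeSpectrum k) _ _
  rw [hy0] at hy
  have sq := hI.sq
  have hid : pmap (RingHom.id k) 1 = 𝟙 _ := pmap_id k 1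
  let h : CohB1.ProjSpace 1 k ⟶ PicF.XT (CohB1.ProjSpace.toSpec 1 k) M :=
    pullback.lift (𝟙 _) (CohB1.ProjSpace.toSpec 1 k ≫ x) (by
      rw [Category.assoc, hx, Category.id_comp, Category.comp_id])
  have hh1 : h ≫ pullback.fst (CohB1.ProjSpace.toSpec 1 k) M.hom = 𝟙 _ := pullback.lift_fst _ _ _
  have hh2 : h ≫ pullback.snd (CohB1.ProjSpace.toSpec 1 k) M.hom = CohB1.ProjSpace.toSpec 1 k ≫ x :=
    pullback.lift_snd _ _ _
  have hhu : h ≫ u.1 = f := by
    have h4 : PicF.XTmap (CohB1.ProjSpace.toSpec 1 k) (hM.lift φ) ≫ u.1 = pullback.fst _ _ ≫ f :=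
      congrArg Subtype.val (hM.pull_lift φ)
    let l : CohB1.ProjSpace 1 k ⟶ PicF.XT (CohB1.ProjSpace.toSpec 1 k) (Over.mk (𝟙 (Spec (CommRingCat.of k)))) :=
      pullback.lift (𝟙 _) (CohB1.ProjSpace.toSpec 1 k) (by rw [Category.id_comp]; exact (Category.comp_id _).symm)
    have hl1 : l ≫ pullback.fst (CohB1.ProjSpace.toSpec 1 k) (Over.mk (𝟙 (Spec (CommRingCat.of k)))).hom = 𝟙 _ :=
      pullback.lift_fst _ _ _
    have hl2 : l ≫ pullback.snd (CohB1.ProjSpace.toSpec 1 k) (Over.mk (𝟙 (Spec (CommRingCat.of k)))).hom =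
      CohB1.ProjSpace.toSpec 1 k := pullback.lift_snd _ _ _
    have h5 : h = l ≫ PicF.XTmap (CohB1.ProjSpace.toSpec 1 k) (hM.lift φ) := by
      apply pullback.hom_ext
      · rw [hh1, Category.assoc, MorSch.XTmap_fst]
        exact hl1.symm
      · have h6 : PicF.XTmap (CohB1.ProjSpace.toSpec 1 k) (hM.lift φ) ≫
            pullback.snd (CohB1.ProjSpace.toSpec 1 k) M.hom = pullback.snd _ _ ≫ (hM.lift φ).left := by
          simp only [PicF.XTmap, pullback.map, pullback.lift_snd]
        rw [hh2, Category.assoc, h6, ← Category.assoc]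
        exact congrArg (· ≫ x) hl2.symm
    rw [h5, Category.assoc, h4, ← Category.assoc]
    exact (congrArg (· ≫ f) hl1).trans (Category.id_comp f)
  have hμ := (field_iff (u := u.1) (f := pX) sq (-1) (RingHom.id k) x hx' h (by rw [hh1, hid]) hh2
    ((pullback.snd (CohB1.ProjSpace.toSpec 1 k) M.hom) z) hy).1 (by rw [hhu]; exact hfree)
  have hz' := EvOne.mem_smoothLocus_ev hI (-1) (by norm_num) z hμ
  exact ⟨u.1.smoothLocus, hz', K633.SmallExtPt.smooth_smoothLocus u.1⟩

end K314.EvFree
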