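import Groth.Agent.MorSch.K921.P1Ideal
import Groth.Agent.MorSch.K314.P1H1
import Groth.Agent.S1184
import Groth.Agent.S10962
import Groth.Agent.Dix.IdealModCartier
import Groth.Agent.Fga.HilbClosed
import Groth.Agent.Fga.QD1Hilb
import Groth.Agent.CohqB.ProjBC
import Groth.Agent.Picfga.SecGraph
import Groth.Agent.Pic13.H932.CoprodRule

/-!
# Ideals of sections of `P¹` over a ring and their restriction to fibres

* `isEff_section` : the ideal of a section of a smooth curve is effective Cartier;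
* `pull_section` : `pmap^*` of the ideal of a section of `P¹_R` is `O(-1)` on `P¹_k`;
* `pull_two` : the same for the union of two disjoint sections, with `O(-2)`;
* `h1_tw` : `H⁰(E(a)) = 0`, `a + b ≥ -2` ⇒ `H¹(Hom(E, O(b))) = 0` on `P¹_k`.
-/

set_option autoImplicit false
universe u

open CategoryTheory CategoryTheory.Limits AlgebraicGeometry Opposite TopologicalSpace
open Groth.Agent Groth.Agent.CohqB.HomSheaf Groth.Agent.Sga2.PnHomAdj Groth.Agent.CohqB.ProjBC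
open Groth.Agent.PerfB.TwistDer Groth.Agent.Ega2.Tens

namespace K314.SecIdeal

open K314.Lift K314.P1H1

/-- `H⁰(E(a)) = 0` and `a + b ≥ -2` imply `H¹(Hom(E, O(b))) = 0`. -/
theorem h1_tw {k : Type u} [Field k] {E : (CohB1.ProjSpace 1 k).Modules} (hE : FlatMod.IsFinLocFree E) (a b : ℤ)
    (hab : -2 ≤ a + b)
    (h : Subsingleton (Coh.HH (CohB1.ProjSpace 1 k) (CohB1.tensorMod E (Twist.twistProjSpace 1 k a)) 0)) :
    Subsingleton (Coh.HH (CohB1.ProjSpace 1 k) (homSheaf E (Twist.twistProjSpace 1 k b)) 1) := by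
  have h2 := h0_of_le E (-2 - b) a (by omega) h
  let F : (CohB1.ProjSpace 1 k).Modules := CohB1.tensorMod (Twist.twistProjSpace 1 k (-2 - b)) E
  have hF0 : Subsingleton (Coh.HH (CohB1.ProjSpace 1 k) F 0) :=
    Fga.HShift.subsingleton_of_iso (swap E (Twist.twistProjSpace 1 k (-2 - b))) 0 h2
  have hF : FlatMod.IsFinLocFree F :=
    Sga67.LocBasis.isFinLocFree_tensorMod
      (Groth.Agent.S5683.isFinLocFree_of_isInvertible (isInvertible_tw 1 k (-2 - b))) hE
  obtain ⟨e⟩ := Groth.Agent.S2926.result k 1 F hF 0 (by norm_num)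
  have h3 : Subsingleton (Module.Dual k (Coh.HH (CohB1.ProjSpace 1 k) F 0)) := inferInstance
  have h4 := e.symm.toEquiv.subsingleton
  let e1 : (DCoh.sheafHom F).obj (Twist.twistProjSpace 1 k (-((1 : ℕ) + 1))) ≅
      homSheaf F (Twist.twistProjSpace 1 k (-((1 : ℕ) + 1))) :=
    (sheafHomIso F).app _
  let e2 : homSheaf F (Twist.twistProjSpace 1 k (-((1 : ℕ) + 1))) ≅
      homSheaf E (homSheaf (Twist.twistProjSpace 1 k (-2 - b)) (Twist.twistProjSpace 1 k (-((1 : ℕ) + 1)))) :=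
    K462.HomMon.assocIso _ _ _
  let e3 : homSheaf (Twist.twistProjSpace 1 k (-2 - b)) (Twist.twistProjSpace 1 k (-((1 : ℕ) + 1))) ≅
      Twist.twistProjSpace 1 k b :=
    Sga2.PnTwHom.homSheafTw 1 k (-2 - b) (-((1 : ℕ) + 1)) b (by push_cast; ring)
  have h5 := Fga.HShift.subsingleton_of_iso (e1 ≪≫ e2) 1 h4
  exact hh_homSheaf_congr (Iso.refl E) e3 1 h5

/-- The kernel ideal of a morphism from a disjoint union. -/
theorem ker_desc {A B X : Scheme.{u}} (a : A ⟶ X) (b : B ⟶ X) :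
    (coprod.desc a b).ker = a.ker ⊓ b.ker := by
  have h1 : (coprod.inl ≫ coprod.desc a b).ker = (coprod.inl : A ⟶ A ⨿ B).ker.map (coprod.desc a b) :=
    Scheme.Hom.ker_comp _ _
  have h2 : (coprod.inr ≫ coprod.desc a b).ker = (coprod.inr : B ⟶ A ⨿ B).ker.map (coprod.desc a b) :=
    Scheme.Hom.ker_comp _ _
  rw [coprod.inl_desc] at h1
  rw [coprod.inr_desc] at h2
  rw [h1, h2, ← Scheme.IdealSheafData.map_inf, Pic13.H932.CoprodRule.inf_ker, Scheme.IdealSheafData.map_bot]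

theorem isEff_section {X S : Scheme.{u}} (f : X ⟶ S) [SmoothOfRelativeDimension 1 f] [IsSeparated f] (x : S ⟶ X)
    (hx : x ≫ f = 𝟙 S) : BlowUp.IsEffCartierIdeal x.ker := by
  have : IsClosedImmersion (x ≫ f) := by rw [hx]; infer_instance
  have := IsClosedImmersion.of_comp x f
  apply ((S1184.result f x.ker).2 _).1
  obtain ⟨e, he, h⟩ := Picfga.SecGraph.exists_iso_ker_subscheme x
  rw [← h, Category.assoc, hx, Category.comp_id]
  exact ⟨inferInstance, inferInstance, inferInstance⟩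

variable {R : Type u} [CommRing R] {k : Type u} [Field k] (φ : R →+* k)

/-- The section of `P¹_k` induced by a section of `P¹_R`. -/
theorem exists_pull (s : Spec (CommRingCat.of R) ⟶ CohB1.ProjSpace 1 R) (hs : s ≫ CohB1.ProjSpace.toSpec 1 R = 𝟙 _) :
    ∃ t : Spec (CommRingCat.of k) ⟶ CohB1.ProjSpace 1 k, t ≫ CohB1.ProjSpace.toSpec 1 k = 𝟙 _ ∧
      t ≫ pmap φ 1 = Spec.map (CommRingCat.ofHom φ) ≫ s ∧ t.ker = s.ker.comap (pmap φ 1) := by
  have H := isPullback_pmap φ 1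
  have hw : (Spec.map (CommRingCat.ofHom φ) ≫ s) ≫ CohB1.ProjSpace.toSpec 1 R =
      𝟙 _ ≫ Spec.map (CommRingCat.ofHom φ) := by
    rw [Category.assoc, hs, Category.comp_id, Category.id_comp]
  let t : Spec (CommRingCat.of k) ⟶ CohB1.ProjSpace 1 k := H.lift _ _ hw
  have h1 : t ≫ pmap φ 1 = Spec.map (CommRingCat.ofHom φ) ≫ s := H.lift_fst _ _ _
  have h2 : t ≫ CohB1.ProjSpace.toSpec 1 k = 𝟙 _ := H.lift_snd _ _ _
  have hP : IsPullback (Spec.map (CommRingCat.ofHom φ)) t s (pmap φ 1) := by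
    refine IsPullback.of_bot (v₂₁ := CohB1.ProjSpace.toSpec 1 k) (v₂₂ := CohB1.ProjSpace.toSpec 1 R)
      (h₃₁ := Spec.map (CommRingCat.ofHom φ)) ?_ h1.symm H
    rw [h2, hs]
    exact IsPullback.of_vert_isIso ⟨by rw [Category.id_comp, Category.comp_id]⟩
  have hc : IsProper (CohB1.ProjSpace.toSpec 1 R) := Dix.ProjProper.isProper_toSpec 1 R
  have : IsClosedImmersion (s ≫ CohB1.ProjSpace.toSpec 1 R) := by rw [hs]; infer_instance
  have := IsClosedImmersion.of_comp s (CohB1.ProjSpace.toSpec 1 R)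
  exact ⟨t, h2, h1, Fga.HilbClosed.ker_of_isPullback hP⟩

/-- **The ideal of a section of `P¹_R` restricts to `O(-1)` on `P¹_k`.** -/
theorem pull_section (s : Spec (CommRingCat.of R) ⟶ CohB1.ProjSpace 1 R) (hs : s ≫ CohB1.ProjSpace.toSpec 1 R = 𝟙 _) :
    Nonempty ((Scheme.Modules.pullback (pmap φ 1)).obj (ClSub.idealMod s.ker) ≅ Twist.twistProjSpace 1 k (-1)) := by
  obtain ⟨t, ht, -, hk⟩ := exists_pull φ s hs
  have hc : IsProper (CohB1.ProjSpace.toSpec 1 R) := Dix.ProjProper.isProper_toSpec 1 R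
  have hc' : IsProper (CohB1.ProjSpace.toSpec 1 k) := Dix.ProjProper.isProper_toSpec 1 k
  have h1 := isEff_section (CohB1.ProjSpace.toSpec 1 R) s hs
  have h2 := isEff_section (CohB1.ProjSpace.toSpec 1 k) t ht
  rw [hk] at h2
  obtain ⟨e⟩ := Dix.IdealModCartier.pullback_idealMod (pmap φ 1) h1 h2
  obtain ⟨e'⟩ := K921.P1Ideal.nonempty_idealMod_iso k t ht
  rw [hk] at e'
  exact ⟨e ≪≫ e'⟩

/-- Comaximal ideals: the intersection is the product. -/
theorem inf_eq_mul {X : Scheme.{u}} (I J : X.IdealSheafData) (h : I ⊔ J = ⊤) : I ⊓ J = I * J := by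
  refine Scheme.IdealSheafData.ext (funext fun U => ?_)
  have h1 : (I ⊔ J).ideal U = ⊤ := by rw [h]; rfl
  rw [Scheme.IdealSheafData.ideal_sup, Pi.sup_apply] at h1
  rw [Scheme.IdealSheafData.ideal_inf, Scheme.IdealSheafData.ideal_mul, Pi.inf_apply, Pi.mul_apply]
  exact (Ideal.mul_eq_inf_of_isCoprime (Ideal.isCoprime_iff_sup_eq.2 h1)).symm

/-- Two sections with disjoint images. -/
theorem sup_eq_top {X : Scheme.{u}} (I J : X.IdealSheafData) (h : ∀ x, x ∈ I.support → x ∉ J.support) : I ⊔ J = ⊤ := by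
  rw [← Scheme.IdealSheafData.support_eq_bot_iff, Scheme.IdealSheafData.support_sup]
  exact Closeds.ext (Set.eq_empty_of_forall_notMem fun x hx => h x hx.1 hx.2)

/-- **The ideal of the union of two disjoint sections restricts to `O(-2)`.** -/
theorem pull_two (s₁ s₂ : Spec (CommRingCat.of R) ⟶ CohB1.ProjSpace 1 R)
    (h₁ : s₁ ≫ CohB1.ProjSpace.toSpec 1 R = 𝟙 _) (h₂ : s₂ ≫ CohB1.ProjSpace.toSpec 1 R = 𝟙 _)
    (hd : s₁.ker ⊔ s₂.ker = ⊤) :
    Nonempty ((Scheme.Modules.pullback (pmap φ 1)).obj (ClSub.idealMod (coprod.desc s₁ s₂).ker) ≅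
      Twist.twistProjSpace 1 k (-2)) := by
  have hc : IsProper (CohB1.ProjSpace.toSpec 1 R) := Dix.ProjProper.isProper_toSpec 1 R
  have e₁ := isEff_section (CohB1.ProjSpace.toSpec 1 R) s₁ h₁
  have e₂ := isEff_section (CohB1.ProjSpace.toSpec 1 R) s₂ h₂
  obtain ⟨a₁⟩ := pull_section φ s₁ h₁
  obtain ⟨a₂⟩ := pull_section φ s₂ h₂
  rw [ker_desc, inf_eq_mul _ _ hd]
  obtain ⟨m⟩ := Dix.IdealModCartier.idealMod_mul e₁ e₂
  obtain ⟨p⟩ := Dix.IdealModCartier.pullback_tensorMod (pmap φ 1) (Dix.IdealModCartier.isInvertible_idealMod e₁)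
    (Dix.IdealModCartier.isInvertible_idealMod e₂)
  obtain ⟨q⟩ := Groth.Agent.S10962.nonempty_tensor (n := 1) (R := k) (-1) (-1)
  exact ⟨(Scheme.Modules.pullback (pmap φ 1)).mapIso m.symm ≪≫ p ≪≫ mapTIso a₁ a₂ ≪≫ q⟩

end K314.SecIdeal
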