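import Groth.Agent.MorSch.K314.MorSmooth
import Groth.Agent.MorSch.K314.Pointed
import Groth.Agent.MorSch.K314.SecIdeal
import Groth.Agent.Lefpen.H613.SqLift

/-!
# Smoothness of the evaluation map at free curves

* `mem_smoothLocus_ev` : for the scheme of morphisms `M` from `P¹` to a smooth `X`, the evaluation `P¹ × M ⟶ X` is smooth
  at every point over a curve `g` with `H⁰(P¹, g^*Ω(a)) = 0`, `a ≥ -1`.
-/

set_option autoImplicit false
universe u

open CategoryTheory CategoryTheory.Limits AlgebraicGeometry Opposite TopologicalSpace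
open Groth.Agent Groth.Agent.CohqB.HomSheaf Groth.Agent.CohqB.ProjBC

namespace K314.EvOne

open K314.MorScheme K314.Lift K314.Small K314.P1H1 K314.MorSmooth

noncomputable section

variable {R : Type u} [CommRing R] {X M P : Scheme.{u}} {f : X ⟶ Spec (CommRingCat.of R)}
  {m : M ⟶ Spec (CommRingCat.of R)} {pc : P ⟶ CohB1.ProjSpace 1 R} {pm : P ⟶ M} {u : P ⟶ X}

theorem ker_sq {B' B : Type u} [CommRing B'] [CommRing B] [IsLocalRing B'] [Nontrivial B] (π : B' →+* B) {t : B'}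
    (hk : RingHom.ker π = Ideal.span {t}) (ht : ∀ a ∈ IsLocalRing.maximalIdeal B', a * t = 0) :
    RingHom.ker π ^ 2 = ⊥ := by
  have h1 : t ∈ IsLocalRing.maximalIdeal B' := by
    refine IsLocalRing.le_maximalIdeal (RingHom.ker_ne_top π) ?_
    rw [hk]
    exact Ideal.mem_span_singleton_self t
  rw [hk, pow_two, Ideal.span_singleton_mul_span_singleton, ht t h1]
  exact Ideal.span_singleton_eq_bot.2 rfl

theorem isPullback_sections {B' B : Type u} [CommRing B'] [CommRing B] (π : B' →+* B)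
    (σ : Spec (CommRingCat.of B') ⟶ CohB1.ProjSpace 1 B') (hσ : σ ≫ CohB1.ProjSpace.toSpec 1 B' = 𝟙 _)
    (τ : Spec (CommRingCat.of B) ⟶ CohB1.ProjSpace 1 B) (hτ : τ ≫ CohB1.ProjSpace.toSpec 1 B = 𝟙 _)
    (h : τ ≫ pmap π 1 = Spec.map (CommRingCat.ofHom π) ≫ σ) :
    IsPullback τ (Spec.map (CommRingCat.ofHom π)) (pmap π 1) σ := by
  have H := isPullback_pmap π 1
  have hP : IsPullback (Spec.map (CommRingCat.ofHom π)) τ σ (pmap π 1) := by
    refine IsPullback.of_bot (v₂₁ := CohB1.ProjSpace.toSpec 1 B) (v₂₂ := CohB1.ProjSpace.toSpec 1 B')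
      (h₃₁ := Spec.map (CommRingCat.ofHom π)) ?_ h.symm H
    rw [hτ, hσ]
    exact IsPullback.of_vert_isIso ⟨by rw [Category.id_comp, Category.comp_id]⟩
  exact hP.flip

/-- **Smoothness of the evaluation map at the free curves.** -/
theorem mem_smoothLocus_ev [IsNoetherianRing R] [QuasiSeparated f] [Smooth f] [LocallyOfFiniteType m]
    [LocallyOfFinitePresentation u]
    (hM : IsMor (CohB1.ProjSpace.toSpec 1 R) f m pc pm u) (a : ℤ) (ha : -1 ≤ a) (z : P)
    (hμ : Subsingleton (Coh.HH (pm.fiber (pm z))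
      ((Scheme.Modules.pullback (pm.fiberι (pm z))).obj (twSh f pc u a)) 0)) :
    z ∈ u.smoothLocus := by
  have : IsLocallyNoetherian X := LocallyOfFiniteType.isLocallyNoetherian f
  refine K633.SmallExtPt.mem_smoothLocus_of_lifting u z ?_
  intro B' B _ _ _ _ _ _ π hπ ht α β hα hαβ
  obtain ⟨t, hk, ht⟩ := ht
  obtain ⟨φ₁, hφ₁⟩ : ∃ φ₁ : R →+* B', Spec.map (CommRingCat.ofHom φ₁) = β ≫ f :=
    ⟨(Spec.preimage (β ≫ f)).hom, Spec.map_preimage (β ≫ f)⟩
  have sqM := hM.sq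
  let c := CohB1.ProjSpace.toSpec 1 R
  let ρ : B →+* IsLocalRing.ResidueField B := IsLocalRing.residue B
  let j := pmap π 1
  let i := pmap ρ 1
  have sq : IsPullback j (CohB1.ProjSpace.toSpec 1 B) (CohB1.ProjSpace.toSpec 1 B') (Spec.map (CommRingCat.ofHom π)) :=
    isPullback_pmap π 1
  have sq₁ : IsPullback i (CohB1.ProjSpace.toSpec 1 (IsLocalRing.ResidueField B)) (CohB1.ProjSpace.toSpec 1 B)
      (Spec.map (CommRingCat.ofHom ρ)) := isPullback_pmap ρ 1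
  have sq' : IsPullback (pmap φ₁ 1) (CohB1.ProjSpace.toSpec 1 B') c (Spec.map (CommRingCat.ofHom φ₁)) :=
    isPullback_pmap φ₁ 1
  have sqB : IsPullback (j ≫ pmap φ₁ 1) (CohB1.ProjSpace.toSpec 1 B) c
      (Spec.map (CommRingCat.ofHom π) ≫ Spec.map (CommRingCat.ofHom φ₁)) := sq.paste_horiz sq'
  have hαm : (α ≫ pm) ≫ m = Spec.map (CommRingCat.ofHom π) ≫ Spec.map (CommRingCat.ofHom φ₁) := by
    rw [Category.assoc, ← hM.comm, ← Category.assoc, ← hαβ, Category.assoc, ← hφ₁]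
  have w1 : (j ≫ pmap φ₁ 1) ≫ c = (CohB1.ProjSpace.toSpec 1 B ≫ α ≫ pm) ≫ m := by
    rw [sqB.w, Category.assoc, hαm]
  let hB : CohB1.ProjSpace 1 B ⟶ P := sqM.lift (j ≫ pmap φ₁ 1) (CohB1.ProjSpace.toSpec 1 B ≫ α ≫ pm) w1
  have hB1 : hB ≫ pc = j ≫ pmap φ₁ 1 := sqM.lift_fst _ _ _
  have hB2 : hB ≫ pm = CohB1.ProjSpace.toSpec 1 B ≫ α ≫ pm := sqM.lift_snd _ _ _
  let g := hB ≫ u
  have w : j ≫ CohB1.ProjSpace.toSpec 1 B' ≫ Spec.map (CommRingCat.ofHom φ₁) = g ≫ f := by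
    have e1 := sq.w
    have e2 : g ≫ f = CohB1.ProjSpace.toSpec 1 B ≫ (α ≫ pm) ≫ m := by
      rw [Category.assoc, hM.comm, ← Category.assoc, hB2, Category.assoc]
    rw [e2, hαm, ← Category.assoc, e1, Category.assoc]
  -- the sections
  have hs : Spec.map (CommRingCat.ofHom π) ≫ Spec.map (CommRingCat.ofHom φ₁) = (α ≫ pc) ≫ c := by
    rw [Category.assoc, sqM.w, ← Category.assoc, hαm]
  obtain ⟨s, hs1, hs2⟩ := Groth.Agent.Lefpen.H613.SqLift.exists_lift c π hπ (ker_sq π hk ht) (α ≫ pc)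
    (Spec.map (CommRingCat.ofHom φ₁)) hs
  have wσ : s ≫ c = 𝟙 _ ≫ Spec.map (CommRingCat.ofHom φ₁) := by rw [hs2, Category.id_comp]
  let σ : Spec (CommRingCat.of B') ⟶ CohB1.ProjSpace 1 B' := sq'.lift s (𝟙 _) wσ
  have hσ1 : σ ≫ pmap φ₁ 1 = s := sq'.lift_fst _ _ _
  have hσ2 : σ ≫ CohB1.ProjSpace.toSpec 1 B' = 𝟙 _ := sq'.lift_snd _ _ _
  have wτ : (α ≫ pc) ≫ c = 𝟙 _ ≫ Spec.map (CommRingCat.ofHom π) ≫ Spec.map (CommRingCat.ofHom φ₁) := by
    rw [← hs, Category.id_comp]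
  let τ : Spec (CommRingCat.of B) ⟶ CohB1.ProjSpace 1 B := sqB.lift (α ≫ pc) (𝟙 _) wτ
  have hτ1 : τ ≫ j ≫ pmap φ₁ 1 = α ≫ pc := sqB.lift_fst _ _ _
  have hτ2 : τ ≫ CohB1.ProjSpace.toSpec 1 B = 𝟙 _ := sqB.lift_snd _ _ _
  have hτB : τ ≫ hB = α := by
    apply sqM.hom_ext
    · rw [Category.assoc, hB1, hτ1]
    · rw [Category.assoc, hB2, ← Category.assoc, hτ2, Category.id_comp]
  have hτσ : τ ≫ j = Spec.map (CommRingCat.ofHom π) ≫ σ := by
    apply sq'.hom_ext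
    · rw [Category.assoc, hτ1, Category.assoc, hσ1, hs1]
    · rw [Category.assoc, sq.w, ← Category.assoc, hτ2, Category.assoc, hσ2, Category.id_comp, Category.comp_id]
  have sqT : IsPullback τ (Spec.map (CommRingCat.ofHom π)) j σ := isPullback_sections π σ hσ2 τ hτ2 hτσ
  have hcB : IsProper (CohB1.ProjSpace.toSpec 1 B') := Dix.ProjProper.isProper_toSpec 1 B'
  have : IsClosedImmersion (σ ≫ CohB1.ProjSpace.toSpec 1 B') := by rw [hσ2]; infer_instance
  have : IsClosedImmersion σ := IsClosedImmersion.of_comp σ (CohB1.ProjSpace.toSpec 1 B')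
  have : Flat (σ ≫ CohB1.ProjSpace.toSpec 1 B') := by rw [hσ2]; infer_instance
  -- the closed fibre
  let ψ : R →+* IsLocalRing.ResidueField B := ρ.comp (π.comp φ₁)
  have hψ : i ≫ j ≫ pmap φ₁ 1 = pmap ψ 1 := by
    rw [Fga.QD1Hilb.pmap_comp, Fga.QD1Hilb.pmap_comp]
  have hx : (Spec.map (CommRingCat.ofHom ρ) ≫ α ≫ pm) ≫ m = Spec.map (CommRingCat.ofHom ψ) := by
    rw [Category.assoc, hαm, ← Spec.map_comp, ← Spec.map_comp]
    rfl
  have hx0 : (Spec.map (CommRingCat.ofHom ρ) ≫ α ≫ pm) (IsLocalRing.closedPoint (IsLocalRing.ResidueField B)) =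
      pm z := by
    rw [← hα]
    have h3 : (Spec.map (CommRingCat.ofHom ρ)) (IsLocalRing.closedPoint (IsLocalRing.ResidueField B)) =
        IsLocalRing.closedPoint B := IsLocalRing.comap_closedPoint ρ
    exact ((Scheme.Hom.comp_apply _ _ _).trans (congrArg (α ≫ pm) h3)).trans (Scheme.Hom.comp_apply _ _ _)
  have h0 := (field_iff (u := u) (f := f) sqM a ψ (Spec.map (CommRingCat.ofHom ρ) ≫ α ≫ pm) hx (i ≫ hB)
    (by rw [Category.assoc, hB1, hψ])
    (by rw [Category.assoc, hB2, ← Category.assoc, sq₁.w, Category.assoc]) (pm z) hx0).2 hμ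
  have hig : (i ≫ hB) ≫ u = i ≫ g := Category.assoc _ _ _
  rw [hig] at h0
  have hE : FlatMod.IsFinLocFree ((Scheme.Modules.pullback (i ≫ g)).obj (Omega.sheaf f)) :=
    PerfB.FlatPull.isFinLocFree_pullback _ (K696.OmFree.isFinLocFree_omega f)
  have h1 := SecIdeal.h1_tw hE a (-1) (by omega) h0
  have hij : i ≫ j = pmap (ρ.comp π) 1 := (Fga.QD1Hilb.pmap_comp _ _).symm
  obtain ⟨e⟩ := SecIdeal.pull_section (ρ.comp π) σ hσ2
  rw [← hij] at e
  have h1' : Subsingleton (Coh.HH (CohB1.ProjSpace 1 (IsLocalRing.ResidueField B))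
      (homSheaf ((Scheme.Modules.pullback (i ≫ g)).obj (Omega.sheaf f))
        ((Scheme.Modules.pullback (i ≫ j)).obj (ClSub.idealMod σ.ker))) 1) :=
    hh_homSheaf_congr (Iso.refl _) e.symm 1 h1
  have hN := isNoetherian_projSpace (IsLocalRing.ResidueField B)
  have hdim : topologicalKrullDim (CohB1.ProjSpace 1 (IsLocalRing.ResidueField B)) ≤ 1 := by
    rw [Groth.Agent.S10829.result (IsLocalRing.ResidueField B) 1]
    exact le_of_eq (by norm_num)
  obtain ⟨b, hb1, hbσ, hb2⟩ := Pointed.exists_lift_small_pointed hπ IsLocalRing.residue_surjective hk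
    (fun b hb => ht b (by
      rw [IsLocalRing.mem_maximalIdeal, mem_nonunits_iff]
      intro hu
      have h2 := (hu.map π).map ρ
      rw [RingHom.mem_ker, RingHom.comp_apply] at hb
      rw [hb] at h2
      exact not_isUnit_zero h2)) sq sq₁ hdim σ sqT f g _ w β
    (by rw [← Category.assoc, hσ2, Category.id_comp, hφ₁])
    (by rw [← Category.assoc, hτB, ← hαβ]) (K696.OmFree.isFinLocFree_omega f)
    (Groth.Agent.S5005.result f) h1'
  -- the point over `B'`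
  obtain ⟨γ, ⟨hγ1, hγ2⟩, -⟩ := hM.existsUnique (T := Spec (CommRingCat.of B')) (Spec.map (CommRingCat.ofHom φ₁))
    (pmap φ₁ 1) (CohB1.ProjSpace.toSpec 1 B') sq' b hb2
  obtain ⟨γ', -, hu'⟩ := hM.existsUnique (T := Spec (CommRingCat.of B))
    (Spec.map (CommRingCat.ofHom π) ≫ Spec.map (CommRingCat.ofHom φ₁)) (j ≫ pmap φ₁ 1) (CohB1.ProjSpace.toSpec 1 B) sqB g
    (by rw [← w, ← Category.assoc, sq.w, Category.assoc])
  have hγw : (pmap φ₁ 1) ≫ c = (CohB1.ProjSpace.toSpec 1 B' ≫ γ) ≫ m := by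
    rw [sq'.w, Category.assoc, hγ1]
  let h' : CohB1.ProjSpace 1 B' ⟶ P := sqM.lift (pmap φ₁ 1) (CohB1.ProjSpace.toSpec 1 B' ≫ γ) hγw
  have h'1 : h' ≫ pc = pmap φ₁ 1 := sqM.lift_fst _ _ _
  have h'2 : h' ≫ pm = CohB1.ProjSpace.toSpec 1 B' ≫ γ := sqM.lift_snd _ _ _
  have h'u : h' ≫ u = b := hγ2 h' h'1 h'2
  have e1 : Spec.map (CommRingCat.ofHom π) ≫ γ = γ' := by
    refine hu' _ ⟨by rw [Category.assoc, hγ1], fun h hh1 hh2 => ?_⟩
    have : h = j ≫ h' := by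
      apply sqM.hom_ext
      · rw [hh1, Category.assoc, h'1]
      · rw [hh2, Category.assoc, h'2, ← Category.assoc, ← Category.assoc, sq.w]
    rw [this, Category.assoc, h'u, hb1]
  have e2 : α ≫ pm = γ' := by
    refine hu' _ ⟨hαm, fun h hh1 hh2 => ?_⟩
    have : h = hB := by
      apply sqM.hom_ext
      · rw [hh1, hB1]
      · rw [hh2, hB2]
    rw [this]
  have e3 : j ≫ h' = hB := by
    apply sqM.hom_ext
    · rw [Category.assoc, h'1, hB1]
    · rw [Category.assoc, h'2, hB2, e2, ← e1, ← Category.assoc, ← Category.assoc, sq.w]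
  refine ⟨σ ≫ h', ?_, by rw [Category.assoc, h'u, hbσ]⟩
  rw [← Category.assoc, ← hτσ, Category.assoc, e3, hτB]

end

end K314.EvOne
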