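import Groth.Agent.MorSch.K314.EvOne
import Groth.Agent.HilbZeta.K842.Split
import Groth.Agent.Sga7.H270.FinPts

/-!
# Smoothness of the doubled evaluation map at very free curves

* `mem_smoothLocus` : for the scheme of morphisms `M` from `P¹` to a smooth `X`, the doubled evaluation
  `P ×_M P ⟶ X × X`, `P = P¹ × M`, is smooth at every point off the diagonal over a curve `g` with
  `H⁰(P¹, g^*Ω) = 0`.
-/

set_option autoImplicit false
universe u

open CategoryTheory CategoryTheory.Limits AlgebraicGeometry Opposite TopologicalSpace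
open Groth.Agent Groth.Agent.CohqB.HomSheaf Groth.Agent.CohqB.ProjBC

namespace K314.EvTwo

open K314.MorScheme K314.Lift K314.Small K314.P1H1 K314.MorSmooth K314.EvOne

noncomputable section

theorem comp_pt {A B C D : Scheme.{u}} {f : A ⟶ B} {g : B ⟶ C} {f' : A ⟶ D} {g' : D ⟶ C} (h : f ≫ g = f' ≫ g')
    {x : A} {y : D} (hy : f' x = y) : g (f x) = g' y := by
  rw [← hy, ← Scheme.Hom.comp_apply, ← Scheme.Hom.comp_apply, h]

/-- Two sections of `P¹` over a local Artinian ring that differ at the closed point are disjoint. -/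
theorem range_disjoint {B' κ : Type u} [CommRing B'] [IsLocalRing B'] [IsArtinianRing B'] [Field κ] (θ : B' →+* κ)
    (hθ : Function.Surjective θ)
    (σ₁ σ₂ : Spec (CommRingCat.of B') ⟶ CohB1.ProjSpace 1 B')
    (h₁ : σ₁ ≫ CohB1.ProjSpace.toSpec 1 B' = 𝟙 _) (h₂ : σ₂ ≫ CohB1.ProjSpace.toSpec 1 B' = 𝟙 _)
    (hne : Spec.map (CommRingCat.ofHom θ) ≫ σ₁ ≠ Spec.map (CommRingCat.ofHom θ) ≫ σ₂) :
    Disjoint (Set.range σ₁) (Set.range σ₂) := by
  rw [Set.disjoint_left]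
  rintro _ ⟨y₁, rfl⟩ ⟨y₂, hy⟩
  refine hne ?_
  obtain ⟨t₁, ht₁, hp₁, -⟩ := SecIdeal.exists_pull θ σ₁ h₁
  obtain ⟨t₂, ht₂, hp₂, -⟩ := SecIdeal.exists_pull θ σ₂ h₂
  have hy₁ : y₁ = IsLocalRing.closedPoint B' := Subsingleton.elim (α := PrimeSpectrum B') _ _
  have hy₂ : y₂ = IsLocalRing.closedPoint B' := Subsingleton.elim (α := PrimeSpectrum B') _ _
  subst hy₁ hy₂
  have hcl : (Spec.map (CommRingCat.ofHom θ)) (IsLocalRing.closedPoint κ) = IsLocalRing.closedPoint B' :=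
    Subsingleton.elim (α := PrimeSpectrum B') _ _
  have : IsClosedImmersion (Spec.map (CommRingCat.ofHom θ)) := IsClosedImmersion.spec_of_surjective _ hθ
  have : IsClosedImmersion (pmap θ 1) :=
    MorphismProperty.of_isPullback (P := @IsClosedImmersion) (isPullback_pmap θ 1).flip inferInstance
  have e1 : (pmap θ 1) (t₁ (IsLocalRing.closedPoint κ)) = σ₁ (IsLocalRing.closedPoint B') := comp_pt hp₁ hcl
  have e2 : (pmap θ 1) (t₂ (IsLocalRing.closedPoint κ)) = σ₂ (IsLocalRing.closedPoint B') := comp_pt hp₂ hcl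
  have e3 : t₁ (IsLocalRing.closedPoint κ) = t₂ (IsLocalRing.closedPoint κ) :=
    (pmap θ 1).isClosedEmbedding.injective (by rw [e1, e2, hy])
  have e4 : t₁ = t₂ := Groth.Agent.Sga7.H270.FinPts.section_ext (CohB1.ProjSpace.toSpec 1 κ) t₁ t₂ ht₁ ht₂ e3
  rw [← hp₁, ← hp₂, e4]

theorem sup_ker {B' : Type u} [CommRing B'] (σ₁ σ₂ : Spec (CommRingCat.of B') ⟶ CohB1.ProjSpace 1 B')
    [IsClosedImmersion σ₁] [IsClosedImmersion σ₂] (hd : Disjoint (Set.range σ₁) (Set.range σ₂)) :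
    σ₁.ker ⊔ σ₂.ker = ⊤ := by
  have key : ∀ (σ : Spec (CommRingCat.of B') ⟶ CohB1.ProjSpace 1 B') [IsClosedImmersion σ],
      (σ.ker.support : Set (CohB1.ProjSpace 1 B')) = Set.range σ := by
    intro σ _
    rw [Scheme.Hom.support_ker, σ.isClosedEmbedding.isClosed_range.closure_eq]
  refine SecIdeal.sup_eq_top _ _ fun x h1 h2 => ?_
  have h1' : x ∈ Set.range σ₁ := by rw [← key σ₁]; exact h1
  have h2' : x ∈ Set.range σ₂ := by rw [← key σ₂]; exact h2
  exact Set.disjoint_left.1 hd h1' h2'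

variable {R : Type u} [CommRing R] {X M P : Scheme.{u}} {f : X ⟶ Spec (CommRingCat.of R)}
  {m : M ⟶ Spec (CommRingCat.of R)} {pc : P ⟶ CohB1.ProjSpace 1 R} {pm : P ⟶ M} {u : P ⟶ X}

/-- **Smoothness of the doubled evaluation map at the very free curves.** -/
theorem mem_smoothLocus [IsNoetherianRing R] [QuasiSeparated f] [Smooth f] [LocallyOfFiniteType m]
    (hM : IsMor (CohB1.ProjSpace.toSpec 1 R) f m pc pm u) (E : pullback pm pm ⟶ pullback f f)
    [LocallyOfFinitePresentation E] (hE₁ : E ≫ pullback.fst f f = pullback.fst pm pm ≫ u)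
    (hE₂ : E ≫ pullback.snd f f = pullback.snd pm pm ≫ u) (a : ℤ) (ha : 0 ≤ a) (δ : ↥(pullback pm pm))
    (hδ : δ ∉ Set.range (pullback.diagonal pm))
    (hμ : Subsingleton (Coh.HH (pm.fiber ((pullback.fst pm pm ≫ pm) δ))
      ((Scheme.Modules.pullback (pm.fiberι ((pullback.fst pm pm ≫ pm) δ))).obj (twSh f pc u a)) 0)) :
    δ ∈ E.smoothLocus := by
  have : IsLocallyNoetherian X := LocallyOfFiniteType.isLocallyNoetherian f
  have : LocallyOfFiniteType (pullback.fst f f ≫ f) := inferInstance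
  have : IsLocallyNoetherian (pullback f f) := LocallyOfFiniteType.isLocallyNoetherian (pullback.fst f f ≫ f)
  refine K633.SmallExtPt.mem_smoothLocus_of_lifting E δ ?_
  intro B' B _ _ _ _ _ _ π hπ ht α β hα hαβ
  obtain ⟨t, hk, ht⟩ := ht
  obtain ⟨φ₁, hφ₁⟩ : ∃ φ₁ : R →+* B', Spec.map (CommRingCat.ofHom φ₁) = (β ≫ pullback.fst f f) ≫ f :=
    ⟨(Spec.preimage ((β ≫ pullback.fst f f) ≫ f)).hom, Spec.map_preimage _⟩
  have hφ₂ : Spec.map (CommRingCat.ofHom φ₁) = (β ≫ pullback.snd f f) ≫ f := by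
    rw [hφ₁, Category.assoc, Category.assoc, pullback.condition]
  have sqM := hM.sq
  let c := CohB1.ProjSpace.toSpec 1 R
  let ρ : B →+* IsLocalRing.ResidueField B := IsLocalRing.residue B
  let j := pmap π 1
  let i := pmap ρ 1
  have sq : IsPullback j (CohB1.ProjSpace.toSpec 1 B) (CohB1.ProjSpace.toSpec 1 B') (Spec.map (CommRingCat.ofHom π)) :=
    isPullback_pmap π 1
  have sq₁ : IsPullback i (CohB1.ProjSpace.toSpec 1 (IsLocalRing.ResidueField B)) (CohB1.ProjSpace.toSpec 1 B)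
      (Spec.map (CommRingCat.ofHom ρ)) := isPullback_pmap ρ 1
  have sq' : IsPullback (pmap φ₁ 1) (CohB1.ProjSpace.toSpec 1 B') c (Spec.map (CommRingCat.ofHom φ₁)) :=
    isPullback_pmap φ₁ 1
  have sqB : IsPullback (j ≫ pmap φ₁ 1) (CohB1.ProjSpace.toSpec 1 B) c
      (Spec.map (CommRingCat.ofHom π) ≫ Spec.map (CommRingCat.ofHom φ₁)) := sq.paste_horiz sq'
  -- the two points
  have hα₁₂ : (α ≫ pullback.fst pm pm) ≫ pm = (α ≫ pullback.snd pm pm) ≫ pm := by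
    rw [Category.assoc, Category.assoc, pullback.condition]
  obtain ⟨α₁, hα₁⟩ : ∃ α₁, α₁ = α ≫ pullback.fst pm pm := ⟨_, rfl⟩
  obtain ⟨α₂, hα₂⟩ : ∃ α₂, α₂ = α ≫ pullback.snd pm pm := ⟨_, rfl⟩
  rw [← hα₁, ← hα₂] at hα₁₂
  have hu₁ : α₁ ≫ u = Spec.map (CommRingCat.ofHom π) ≫ β ≫ pullback.fst f f := by
    rw [hα₁, Category.assoc, ← hE₁, ← Category.assoc, ← hαβ, Category.assoc]
  have hu₂ : α₂ ≫ u = Spec.map (CommRingCat.ofHom π) ≫ β ≫ pullback.snd f f := by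
    rw [hα₂, Category.assoc, ← hE₂, ← Category.assoc, ← hαβ, Category.assoc]
  have hαm : (α₁ ≫ pm) ≫ m = Spec.map (CommRingCat.ofHom π) ≫ Spec.map (CommRingCat.ofHom φ₁) := by
    rw [Category.assoc, ← hM.comm, ← Category.assoc, hu₁, hφ₁]
    simp only [Category.assoc]
  have w1 : (j ≫ pmap φ₁ 1) ≫ c = (CohB1.ProjSpace.toSpec 1 B ≫ α₁ ≫ pm) ≫ m := by
    rw [sqB.w, Category.assoc, hαm]
  let hB : CohB1.ProjSpace 1 B ⟶ P := sqM.lift (j ≫ pmap φ₁ 1) (CohB1.ProjSpace.toSpec 1 B ≫ α₁ ≫ pm) w1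
  have hB1 : hB ≫ pc = j ≫ pmap φ₁ 1 := sqM.lift_fst _ _ _
  have hB2 : hB ≫ pm = CohB1.ProjSpace.toSpec 1 B ≫ α₁ ≫ pm := sqM.lift_snd _ _ _
  let g := hB ≫ u
  have w : j ≫ CohB1.ProjSpace.toSpec 1 B' ≫ Spec.map (CommRingCat.ofHom φ₁) = g ≫ f := by
    have e1 := sq.w
    have e2 : g ≫ f = CohB1.ProjSpace.toSpec 1 B ≫ (α₁ ≫ pm) ≫ m := by
      rw [Category.assoc, hM.comm, ← Category.assoc, hB2, Category.assoc]
    rw [e2, hαm, ← Category.assoc, e1, Category.assoc]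
  -- the sections
  have key : ∀ α' : Spec (CommRingCat.of B) ⟶ P, α' ≫ pm = α₁ ≫ pm →
      ∃ (σ : Spec (CommRingCat.of B') ⟶ CohB1.ProjSpace 1 B') (τ : Spec (CommRingCat.of B) ⟶ CohB1.ProjSpace 1 B),
        σ ≫ CohB1.ProjSpace.toSpec 1 B' = 𝟙 _ ∧ τ ≫ CohB1.ProjSpace.toSpec 1 B = 𝟙 _ ∧ τ ≫ hB = α' ∧
        τ ≫ j = Spec.map (CommRingCat.ofHom π) ≫ σ ∧ τ ≫ j ≫ pmap φ₁ 1 = α' ≫ pc := by
    intro α' hα'
    have hs : Spec.map (CommRingCat.ofHom π) ≫ Spec.map (CommRingCat.ofHom φ₁) = (α' ≫ pc) ≫ c := by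
      rw [Category.assoc, sqM.w, ← Category.assoc, hα', hαm]
    obtain ⟨s, hs1, hs2⟩ := Groth.Agent.Lefpen.H613.SqLift.exists_lift c π hπ (ker_sq π hk ht) (α' ≫ pc)
      (Spec.map (CommRingCat.ofHom φ₁)) hs
    have wσ : s ≫ c = 𝟙 _ ≫ Spec.map (CommRingCat.ofHom φ₁) := by rw [hs2, Category.id_comp]
    let σ : Spec (CommRingCat.of B') ⟶ CohB1.ProjSpace 1 B' := sq'.lift s (𝟙 _) wσ
    have hσ1 : σ ≫ pmap φ₁ 1 = s := sq'.lift_fst _ _ _
    have hσ2 : σ ≫ CohB1.ProjSpace.toSpec 1 B' = 𝟙 _ := sq'.lift_snd _ _ _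
    have wτ : (α' ≫ pc) ≫ c = 𝟙 _ ≫ Spec.map (CommRingCat.ofHom π) ≫ Spec.map (CommRingCat.ofHom φ₁) := by
      rw [← hs, Category.id_comp]
    let τ : Spec (CommRingCat.of B) ⟶ CohB1.ProjSpace 1 B := sqB.lift (α' ≫ pc) (𝟙 _) wτ
    have hτ1 : τ ≫ j ≫ pmap φ₁ 1 = α' ≫ pc := sqB.lift_fst _ _ _
    have hτ2 : τ ≫ CohB1.ProjSpace.toSpec 1 B = 𝟙 _ := sqB.lift_snd _ _ _
    refine ⟨σ, τ, hσ2, hτ2, ?_, ?_, hτ1⟩
    · apply sqM.hom_ext
      · rw [Category.assoc, hB1, hτ1]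
      · rw [Category.assoc, hB2, ← Category.assoc, hτ2, Category.id_comp, hα']
    · apply sq'.hom_ext
      · rw [Category.assoc, hτ1, Category.assoc, hσ1, hs1]
      · rw [Category.assoc, sq.w, ← Category.assoc, hτ2, Category.assoc, hσ2, Category.id_comp, Category.comp_id]
  obtain ⟨σ₁, τ₁, hσ₁, hτ₁, hτB₁, hτσ₁, hc₁⟩ := key α₁ rfl
  obtain ⟨σ₂, τ₂, hσ₂, hτ₂, hτB₂, hτσ₂, hc₂⟩ := key α₂ hα₁₂.symm
  have hcB : IsProper (CohB1.ProjSpace.toSpec 1 B') := Dix.ProjProper.isProper_toSpec 1 B'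
  have : IsClosedImmersion (σ₁ ≫ CohB1.ProjSpace.toSpec 1 B') := by rw [hσ₁]; infer_instance
  have hc1 : IsClosedImmersion σ₁ := IsClosedImmersion.of_comp σ₁ (CohB1.ProjSpace.toSpec 1 B')
  have : IsClosedImmersion (σ₂ ≫ CohB1.ProjSpace.toSpec 1 B') := by rw [hσ₂]; infer_instance
  have hc2 : IsClosedImmersion σ₂ := IsClosedImmersion.of_comp σ₂ (CohB1.ProjSpace.toSpec 1 B')
  -- the sections are disjoint
  have hne : Spec.map (CommRingCat.ofHom (ρ.comp π)) ≫ σ₁ ≠ Spec.map (CommRingCat.ofHom (ρ.comp π)) ≫ σ₂ := by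
    intro he
    have e0 : Spec.map (CommRingCat.ofHom (ρ.comp π)) =
        Spec.map (CommRingCat.ofHom ρ) ≫ Spec.map (CommRingCat.ofHom π) := by
      rw [← Spec.map_comp]
      rfl
    have e1 : Spec.map (CommRingCat.ofHom ρ) ≫ τ₁ ≫ j = Spec.map (CommRingCat.ofHom ρ) ≫ τ₂ ≫ j := by
      rw [hτσ₁, hτσ₂, ← Category.assoc, ← Category.assoc, ← e0, he]
    have e2 : Spec.map (CommRingCat.ofHom ρ) ≫ α₁ = Spec.map (CommRingCat.ofHom ρ) ≫ α₂ := by
      apply sqM.hom_ext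
      · rw [Category.assoc, Category.assoc, ← hc₁, ← hc₂]
        have := congrArg (· ≫ pmap φ₁ 1) e1
        simpa only [Category.assoc] using this
      · rw [Category.assoc, Category.assoc, hα₁₂]
    refine hδ ⟨(Spec.map (CommRingCat.ofHom ρ) ≫ α₁) (IsLocalRing.closedPoint _), ?_⟩
    have e3 : (Spec.map (CommRingCat.ofHom ρ) ≫ α₁) ≫ pullback.diagonal pm = Spec.map (CommRingCat.ofHom ρ) ≫ α := by
      apply pullback.hom_ext
      · rw [Category.assoc, pullback.diagonal_fst, Category.comp_id, Category.assoc, hα₁]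
      · rw [Category.assoc, pullback.diagonal_snd, Category.comp_id, e2, Category.assoc, hα₂]
    have h3 : (Spec.map (CommRingCat.ofHom ρ)) (IsLocalRing.closedPoint (IsLocalRing.ResidueField B)) =
        IsLocalRing.closedPoint B := IsLocalRing.comap_closedPoint ρ
    exact (comp_pt e3 h3).trans hα
  have hd := range_disjoint (ρ.comp π) (IsLocalRing.residue_surjective.comp hπ) σ₁ σ₂ hσ₁ hσ₂ hne
  have hsup := sup_ker σ₁ σ₂ hd
  have hcl : IsClosedImmersion (coprod.desc σ₁ σ₂) := K842.Split.isClosedImmersion_coprodDesc σ₁ σ₂ hd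
  have hfl : Flat (coprod.desc σ₁ σ₂ ≫ CohB1.ProjSpace.toSpec 1 B') := by
    rw [coprod.desc_comp, hσ₁, hσ₂]
    infer_instance
  have sqT : IsPullback (coprod.desc τ₁ τ₂)
      (coprod.map (Spec.map (CommRingCat.ofHom π)) (Spec.map (CommRingCat.ofHom π))) j (coprod.desc σ₁ σ₂) :=
    (K842.Split.isPullback_coprod (isPullback_sections π σ₁ hσ₁ τ₁ hτ₁ hτσ₁).flip
      (isPullback_sections π σ₂ hσ₂ τ₂ hτ₂ hτσ₂).flip).flip
  -- the closed fibre
  let ψ : R →+* IsLocalRing.ResidueField B := ρ.comp (π.comp φ₁)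
  have hψ : i ≫ j ≫ pmap φ₁ 1 = pmap ψ 1 := by
    rw [Fga.QD1Hilb.pmap_comp, Fga.QD1Hilb.pmap_comp]
  have hx : (Spec.map (CommRingCat.ofHom ρ) ≫ α₁ ≫ pm) ≫ m = Spec.map (CommRingCat.ofHom ψ) := by
    rw [Category.assoc, hαm, ← Spec.map_comp, ← Spec.map_comp]
    rfl
  have hx0 : (Spec.map (CommRingCat.ofHom ρ) ≫ α₁ ≫ pm) (IsLocalRing.closedPoint (IsLocalRing.ResidueField B)) =
      (pullback.fst pm pm ≫ pm) δ := by
    have h3 : (Spec.map (CommRingCat.ofHom ρ)) (IsLocalRing.closedPoint (IsLocalRing.ResidueField B)) =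
        IsLocalRing.closedPoint B := IsLocalRing.comap_closedPoint ρ
    have h4 : Spec.map (CommRingCat.ofHom ρ) ≫ α₁ ≫ pm = (Spec.map (CommRingCat.ofHom ρ) ≫ α) ≫ pullback.fst pm pm ≫ pm := by
      rw [hα₁]
      simp only [Category.assoc]
    rw [h4]
    have h5 : (Spec.map (CommRingCat.ofHom ρ) ≫ α) (IsLocalRing.closedPoint (IsLocalRing.ResidueField B)) = δ :=
      ((Scheme.Hom.comp_apply _ α _).trans (congrArg α h3)).trans hα
    exact (Scheme.Hom.comp_apply _ (pullback.fst pm pm ≫ pm) _).trans (congrArg (pullback.fst pm pm ≫ pm) h5)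
  have h0 := (field_iff (u := u) (f := f) sqM a ψ (Spec.map (CommRingCat.ofHom ρ) ≫ α₁ ≫ pm) hx (i ≫ hB)
    (by rw [Category.assoc, hB1, hψ])
    (by rw [Category.assoc, hB2, ← Category.assoc, sq₁.w, Category.assoc]) _ hx0).2 hμ
  have hig : (i ≫ hB) ≫ u = i ≫ g := Category.assoc _ _ _
  rw [hig] at h0
  have hE : FlatMod.IsFinLocFree ((Scheme.Modules.pullback (i ≫ g)).obj (Omega.sheaf f)) :=
    PerfB.FlatPull.isFinLocFree_pullback _ (K696.OmFree.isFinLocFree_omega f)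
  have h1 := SecIdeal.h1_tw hE a (-2) (by omega) h0
  have hij : i ≫ j = pmap (ρ.comp π) 1 := (Fga.QD1Hilb.pmap_comp _ _).symm
  obtain ⟨e⟩ := SecIdeal.pull_two (ρ.comp π) σ₁ σ₂ hσ₁ hσ₂ hsup
  rw [← hij] at e
  have h1' : Subsingleton (Coh.HH (CohB1.ProjSpace 1 (IsLocalRing.ResidueField B))
      (homSheaf ((Scheme.Modules.pullback (i ≫ g)).obj (Omega.sheaf f))
        ((Scheme.Modules.pullback (i ≫ j)).obj (ClSub.idealMod (coprod.desc σ₁ σ₂).ker))) 1) :=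
    hh_homSheaf_congr (Iso.refl _) e.symm 1 h1
  have hN := isNoetherian_projSpace (IsLocalRing.ResidueField B)
  have hdim : topologicalKrullDim (CohB1.ProjSpace 1 (IsLocalRing.ResidueField B)) ≤ 1 := by
    rw [Groth.Agent.S10829.result (IsLocalRing.ResidueField B) 1]
    exact le_of_eq (by norm_num)
  obtain ⟨b, hb1, hbσ, hb2⟩ := Pointed.exists_lift_small_pointed hπ IsLocalRing.residue_surjective hk
    (fun b hb => ht b (by
      rw [IsLocalRing.mem_maximalIdeal, mem_nonunits_iff]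
      intro hu
      have h2 := (hu.map π).map ρ
      rw [RingHom.mem_ker, RingHom.comp_apply] at hb
      rw [hb] at h2
      exact not_isUnit_zero h2)) sq sq₁ hdim (coprod.desc σ₁ σ₂) sqT f g _ w
    (coprod.desc (β ≫ pullback.fst f f) (β ≫ pullback.snd f f))
    (by
      apply coprod.hom_ext
      · rw [coprod.inl_desc_assoc, coprod.inl_desc_assoc, ← Category.assoc, hσ₁, Category.id_comp, hφ₁]
      · rw [coprod.inr_desc_assoc, coprod.inr_desc_assoc, ← Category.assoc, hσ₂, Category.id_comp, hφ₂])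
    (by
      apply coprod.hom_ext
      · rw [coprod.inl_desc_assoc, coprod.inl_map_assoc, coprod.inl_desc, ← Category.assoc, hτB₁, hu₁]
      · rw [coprod.inr_desc_assoc, coprod.inr_map_assoc, coprod.inr_desc, ← Category.assoc, hτB₂, hu₂])
    (K696.OmFree.isFinLocFree_omega f) (Groth.Agent.S5005.result f) h1'
  have hbσ₁ : σ₁ ≫ b = β ≫ pullback.fst f f := by
    have := congrArg (coprod.inl ≫ ·) hbσ
    simpa only [coprod.inl_desc, coprod.inl_desc_assoc] using this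
  have hbσ₂ : σ₂ ≫ b = β ≫ pullback.snd f f := by
    have := congrArg (coprod.inr ≫ ·) hbσ
    simpa only [coprod.inr_desc, coprod.inr_desc_assoc] using this
  -- the point over `B'`
  obtain ⟨γ, ⟨hγ1, hγ2⟩, -⟩ := hM.existsUnique (T := Spec (CommRingCat.of B')) (Spec.map (CommRingCat.ofHom φ₁))
    (pmap φ₁ 1) (CohB1.ProjSpace.toSpec 1 B') sq' b hb2
  obtain ⟨γ', -, hu'⟩ := hM.existsUnique (T := Spec (CommRingCat.of B))
    (Spec.map (CommRingCat.ofHom π) ≫ Spec.map (CommRingCat.ofHom φ₁)) (j ≫ pmap φ₁ 1) (CohB1.ProjSpace.toSpec 1 B) sqB g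
    (by rw [← w, ← Category.assoc, sq.w, Category.assoc])
  have hγw : (pmap φ₁ 1) ≫ c = (CohB1.ProjSpace.toSpec 1 B' ≫ γ) ≫ m := by
    rw [sq'.w, Category.assoc, hγ1]
  let h' : CohB1.ProjSpace 1 B' ⟶ P := sqM.lift (pmap φ₁ 1) (CohB1.ProjSpace.toSpec 1 B' ≫ γ) hγw
  have h'1 : h' ≫ pc = pmap φ₁ 1 := sqM.lift_fst _ _ _
  have h'2 : h' ≫ pm = CohB1.ProjSpace.toSpec 1 B' ≫ γ := sqM.lift_snd _ _ _
  have h'u : h' ≫ u = b := hγ2 h' h'1 h'2
  have e1 : Spec.map (CommRingCat.ofHom π) ≫ γ = γ' := by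
    refine hu' _ ⟨by rw [Category.assoc, hγ1], fun h hh1 hh2 => ?_⟩
    have : h = j ≫ h' := by
      apply sqM.hom_ext
      · rw [hh1, Category.assoc, h'1]
      · rw [hh2, Category.assoc, h'2, ← Category.assoc, ← Category.assoc, sq.w]
    rw [this, Category.assoc, h'u, hb1]
  have e2 : α₁ ≫ pm = γ' := by
    refine hu' _ ⟨hαm, fun h hh1 hh2 => ?_⟩
    have : h = hB := by
      apply sqM.hom_ext
      · rw [hh1, hB1]
      · rw [hh2, hB2]
    rw [this]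
  have e3 : j ≫ h' = hB := by
    apply sqM.hom_ext
    · rw [Category.assoc, h'1, hB1]
    · rw [Category.assoc, h'2, hB2, e2, ← e1, ← Category.assoc, ← Category.assoc, sq.w]
  have e4 : (σ₁ ≫ h') ≫ pm = (σ₂ ≫ h') ≫ pm := by
    rw [Category.assoc, Category.assoc, h'2, ← Category.assoc, ← Category.assoc, hσ₁, hσ₂]
  refine ⟨pullback.lift (σ₁ ≫ h') (σ₂ ≫ h') e4, ?_, ?_⟩
  · apply pullback.hom_ext
    · rw [Category.assoc, pullback.lift_fst, ← Category.assoc, ← hτσ₁, Category.assoc, e3, hτB₁, hα₁]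
    · rw [Category.assoc, pullback.lift_snd, ← Category.assoc, ← hτσ₂, Category.assoc, e3, hτB₂, hα₂]
  · apply pullback.hom_ext
    · rw [Category.assoc, hE₁, pullback.lift_fst_assoc, Category.assoc, h'u, hbσ₁]
    · rw [Category.assoc, hE₂, pullback.lift_snd_assoc, Category.assoc, h'u, hbσ₂]

end

end K314.EvTwo
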