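import Groth.Agent.MorSch.K314.MorScheme
import Groth.Agent.S3218
import Groth.Agent.IntMult.K304.SegreEmb
import Groth.Agent.CohqB.ProjBC
import Groth.Agent.Gaga.H364.ProjRed
import Groth.Agent.Dix.ProjProper

/-!
# The scheme of morphisms from `P¹` to a projective scheme over a Noetherian ring
-/

set_option autoImplicit false
universe u
open CategoryTheory CategoryTheory.Limits AlgebraicGeometry Opposite

namespace K314.MorProj

open K314.MorScheme Groth.Agent

theorem locallyOfFiniteType_of_sigma {H S : Scheme.{u}} (h : H ⟶ S) {ι : Type u} (P : ι → Scheme.{u})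
    (e : (∐ P) ≅ H) (hl : ∀ a, LocallyOfFiniteType (Sigma.ι P a ≫ e.hom ≫ h)) : LocallyOfFiniteType h := by
  have h1 : Sigma.desc (fun a => Sigma.ι P a ≫ e.hom ≫ h) = e.hom ≫ h := by
    apply Sigma.hom_ext
    intro a
    rw [Sigma.ι_desc]
  have hloc : IsZariskiLocalAtSource @LocallyOfFiniteType := HasRingHomProperty.instIsZariskiLocalAtSource
  have h2 : LocallyOfFiniteType (Sigma.desc (fun a => Sigma.ι P a ≫ e.hom ≫ h)) :=
    IsZariskiLocalAtSource.sigmaDesc (P := @LocallyOfFiniteType) hl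
  rw [h1] at h2
  have h3 : h = e.inv ≫ e.hom ≫ h := by rw [Iso.inv_hom_id_assoc]
  rw [h3]
  exact MorphismProperty.comp_mem _ _ _ inferInstance h2

theorem exists_hilb (R : Type u) [CommRing R] [IsNoetherianRing R] {W : Scheme.{u}}
    (w : W ⟶ Spec (CommRingCat.of R)) (L : ℕ) (κ : W ⟶ CohB1.ProjSpace L R) [IsClosedImmersion κ]
    (hκ : κ ≫ CohB1.ProjSpace.toSpec L R = w) :
    ∃ (H : Over (Spec (CommRingCat.of R))) (Z : FGA.HilbSet w H),
      FGA.HilbRepresentedBy w H Z ∧ LocallyOfFiniteType H.hom := by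
  let κ' : W ⟶ CohB1.ProjSpaceOver L (Spec (CommRingCat.of R)) := κ ≫ (CohqB.ProjBC.projSpaceOverIso L R).inv
  have h1 : κ' ≫ CohB1.ProjSpaceOver.toBase L (Spec (CommRingCat.of R)) = w := by
    rw [Category.assoc, CohqB.ProjBC.projSpaceOverIso_inv_toBase, hκ]
  obtain ⟨H, Z, hH, ι, P, e, r, c, hc⟩ := S3218.result (Spec (CommRingCat.of R)) L W κ'
  have hl : LocallyOfFiniteType H.hom := by
    refine locallyOfFiniteType_of_sigma H.hom P e fun a => ?_
    have := (hc a).1
    rw [← (hc a).2]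
    infer_instance
  subst h1
  exact ⟨H, Z, hH, hl⟩

/-- **The scheme of morphisms from `P¹` to a projective scheme** over a Noetherian ring. -/
theorem exists_mor (R : Type u) [CommRing R] [IsNoetherianRing R] {X : Scheme.{u}}
    (f : X ⟶ Spec (CommRingCat.of R)) (N : ℕ) (ι : X ⟶ CohB1.ProjSpace N R) [IsClosedImmersion ι]
    (hι : ι ≫ CohB1.ProjSpace.toSpec N R = f) :
    ∃ (M : Scheme.{u}) (m : M ⟶ Spec (CommRingCat.of R)) (P : Scheme.{u}) (pc : P ⟶ CohB1.ProjSpace 1 R)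
      (pm : P ⟶ M) (u : P ⟶ X), LocallyOfFiniteType m ∧ IsMor (CohB1.ProjSpace.toSpec 1 R) f m pc pm u := by
  let c := CohB1.ProjSpace.toSpec 1 R
  obtain ⟨L, κ, hκ, hκ'⟩ := K304.SegreEmb.exists_embedding c f (𝟙 _) (Category.id_comp _) ι hι (𝟙 (pullback c f))
  rw [Category.id_comp] at hκ'
  obtain ⟨H, Z, hH, hl⟩ := exists_hilb R (pullback.fst c f ≫ c) L κ hκ'
  have hp : IsProper c := Dix.ProjProper.isProper_toSpec 1 R
  have hs : Smooth c := Gaga.H364.ProjRed.smooth_toSpec 1 R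
  have hf : IsSeparated f := by rw [← hι]; infer_instance
  obtain ⟨H₀, u, hu⟩ := exists_isMor c f H Z hH
  exact ⟨H₀, H₀.ι ≫ H.hom, _, _, _, u, inferInstance, hu⟩

end K314.MorProj
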