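import Groth.Prelude.Def_CohB1
import Groth.Agent.Sga5.ProjSmooth
import Groth.Agent.Gaga.H364.ProjRed
import Groth.Agent.Dix.ProjProper
import Mathlib.AlgebraicGeometry.AlgClosed.Basic
import Mathlib.AlgebraicGeometry.Morphisms.Separated
import Mathlib.AlgebraicGeometry.Morphisms.UniversallyOpen
import Mathlib.AlgebraicGeometry.PullbackCarrier

/-!
# Constant morphisms from `P¹` and the open locus of nonconstant members of a family
-/

set_option autoImplicit false
universe u

open CategoryTheory CategoryTheory.Limits AlgebraicGeometry Opposite TopologicalSpace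
open Groth.Agent

namespace K314.NonConst

/-- `g : P¹_K ⟶ X` factors through `Spec K`. -/
def IsConst {K : Type u} [CommRing K] {X : Scheme.{u}} (g : CohB1.ProjSpace 1 K ⟶ X) : Prop :=
  ∃ c : Spec (CommRingCat.of K) ⟶ X, g = CohB1.ProjSpace.toSpec 1 K ≫ c

theorem exists_section (R : Type u) [CommRing R] :
    ∃ s : Spec (CommRingCat.of R) ⟶ CohB1.ProjSpace 1 R, s ≫ CohB1.ProjSpace.toSpec 1 R = 𝟙 _ := by
  refine ⟨Spec.map (CommRingCat.ofHom (MvPolynomial.eval (0 : Fin 1 → R))) ≫ Sga5.ProjSmooth.chart 1 R 0, ?_⟩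
  rw [Category.assoc, Sga5.ProjSmooth.chart_toSpec, ← Spec.map_comp, ← Spec.map_id]
  congr 1
  apply CommRingCat.hom_ext
  apply RingHom.ext
  intro r
  exact MvPolynomial.eval_C r

theorem isConst_iff_section {K : Type u} [CommRing K] {X : Scheme.{u}} (g : CohB1.ProjSpace 1 K ⟶ X)
    (s : Spec (CommRingCat.of K) ⟶ CohB1.ProjSpace 1 K) (hs : s ≫ CohB1.ProjSpace.toSpec 1 K = 𝟙 _) :
    IsConst g ↔ g = CohB1.ProjSpace.toSpec 1 K ≫ s ≫ g := by
  constructor
  · rintro ⟨c, hc⟩
    have h1 : s ≫ g = c := by rw [hc, reassoc_of% hs]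
    rw [h1]
    exact hc
  · intro h
    exact ⟨s ≫ g, h⟩

/-- Constancy can be read off from the image when the field is algebraically closed. -/
theorem isConst_iff_range {K : Type u} [Field K] [IsAlgClosed K] {Y : Scheme.{u}} (q : Y ⟶ Spec (CommRingCat.of K))
    [IsSeparated q] [LocallyOfFiniteType q] (g : CohB1.ProjSpace 1 K ⟶ Y) (hg : g ≫ q = CohB1.ProjSpace.toSpec 1 K) :
    IsConst g ↔ ∃ x : Y, Set.range g.base ⊆ {x} := by
  constructor
  · rintro ⟨c, rfl⟩
    refine ⟨c (IsLocalRing.closedPoint K), ?_⟩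
    rintro _ ⟨y, rfl⟩
    have h1 : (CohB1.ProjSpace.toSpec 1 K) y = IsLocalRing.closedPoint K :=
      Subsingleton.elim (α := PrimeSpectrum K) _ _
    exact (Scheme.Hom.comp_apply _ _ _).trans (congrArg c h1)
  · rintro ⟨x, hx⟩
    obtain ⟨s, hs⟩ := exists_section K
    rw [isConst_iff_section g s hs]
    have hc : IsProper (CohB1.ProjSpace.toSpec 1 K) := Dix.ProjProper.isProper_toSpec 1 K
    have hr : IsReduced (CohB1.ProjSpace 1 K) := Gaga.H364.ProjRed.isReduced_projSpace 1 K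
    have hl : LocallyOfFiniteType (g ≫ q) := by rw [hg]; infer_instance
    have hg' : ∀ y, g y = x := fun y => hx ⟨y, rfl⟩
    refine ext_of_apply_eq q Set.univ isOpen_univ.isLocallyClosed dense_univ (fun y _ _ => ?_) ?_
    · rw [hg', Scheme.Hom.comp_apply, Scheme.Hom.comp_apply, hg']
    · rw [Category.assoc, Category.assoc, hg, hs, Category.comp_id]

/-- A morphism from a reduced scheme with image in that of a closed immersion factors. -/
theorem exists_factor {Y E P : Scheme.{u}} [IsReduced Y] (j : E ⟶ P) [IsClosedImmersion j] (y : Y ⟶ P)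
    (h : Set.range y ⊆ Set.range j) : ∃ y' : Y ⟶ E, y' ≫ j = y := by
  have h1 : Surjective (pullback.fst y j) := by
    refine ⟨fun x => ?_⟩
    have := Scheme.Pullback.range_fst y j
    have hx : x ∈ Set.range (pullback.fst y j) := by
      rw [this]
      exact h ⟨x, rfl⟩
    exact hx
  have : IsIso (pullback.fst y j) := isIso_of_isClosedImmersion_of_surjective _
  exact ⟨inv (pullback.fst y j) ≫ pullback.snd y j, by
    rw [Category.assoc, ← pullback.condition, IsIso.inv_hom_id_assoc]⟩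

/-- The locus where two morphisms to a separated scheme differ. -/
theorem exists_open_ne {X P S : Scheme.{u}} (q : X ⟶ S) [IsSeparated q] (a b : P ⟶ X) (h : a ≫ q = b ≫ q) :
    ∃ U : P.Opens, ∀ (Y : Scheme.{u}) [IsReduced Y] (y : Y ⟶ P),
      y ≫ a = y ≫ b ↔ ∀ z : Y, y z ∉ U := by
  let a' : Over.mk (a ≫ q) ⟶ Over.mk q := Over.homMk a rfl
  let b' : Over.mk (a ≫ q) ⟶ Over.mk q := Over.homMk b h.symm
  have hs : IsSeparated (Over.mk q).hom := inferInstanceAs (IsSeparated q)
  have hc : IsClosedImmersion (equalizer.ι a' b').left := isClosedImmersion_equalizer_ι_left a' b'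
  let j : (equalizer a' b').left ⟶ P := (equalizer.ι a' b').left
  have hj : j ≫ a = j ≫ b := congrArg (fun z => z.left) (equalizer.condition a' b')
  have hcj : IsClosedImmersion j := hc
  refine ⟨⟨(Set.range j)ᶜ, j.isClosedEmbedding.isClosed_range.isOpen_compl⟩, fun Y _ y => ?_⟩
  have h1 : (∀ z : Y, y z ∉ (⟨(Set.range j)ᶜ, j.isClosedEmbedding.isClosed_range.isOpen_compl⟩ : P.Opens)) ↔
      Set.range y ⊆ Set.range j := by
    constructor
    · rintro hz _ ⟨z, rfl⟩
      by_contra hn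
      exact hz z hn
    · intro hz z hn
      exact hn (hz ⟨z, rfl⟩)
  rw [h1]
  constructor
  · intro hm
    let m₁ : Over.mk (y ≫ a ≫ q) ⟶ Over.mk (a ≫ q) := Over.homMk y rfl
    have h2 : m₁ ≫ a' = m₁ ≫ b' := by
      ext1
      exact hm
    have h3 : (equalizer.lift m₁ h2).left ≫ j = y :=
      congrArg (fun z => z.left) (equalizer.lift_ι m₁ h2)
    rintro _ ⟨z, rfl⟩
    rw [← h3]
    exact ⟨(equalizer.lift m₁ h2).left z, (Scheme.Hom.comp_apply _ _ _).symm⟩
  · intro hy
    obtain ⟨y', rfl⟩ := exists_factor j y hy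
    rw [Category.assoc, Category.assoc, hj]

theorem range_eq {A B C D : Scheme.{u}} {t : A ⟶ B} {l : A ⟶ C} {r : B ⟶ D} {b : C ⟶ D} (H : IsPullback t l r b) :
    Set.range t = r ⁻¹' Set.range b := by
  rw [← Scheme.Pullback.range_fst r b]
  have h1 : t = H.isoPullback.hom ≫ pullback.fst r b := H.isoPullback_hom_fst.symm
  have h2 : Function.Surjective H.isoPullback.hom := H.isoPullback.hom.surjective
  rw [h1]
  ext x
  constructor
  · rintro ⟨y, rfl⟩
    exact ⟨H.isoPullback.hom y, (Scheme.Hom.comp_apply _ _ _).symm⟩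
  · rintro ⟨y, rfl⟩
    obtain ⟨z, rfl⟩ := h2 y
    exact ⟨z, Scheme.Hom.comp_apply _ _ _⟩

/-- **The nonconstant members of a family of morphisms from `P¹` form an open subset.** -/
theorem exists_open_nonconst {R : Type u} [CommRing R] {X M P : Scheme.{u}} {f : X ⟶ Spec (CommRingCat.of R)}
    {m : M ⟶ Spec (CommRingCat.of R)} {pc : P ⟶ CohB1.ProjSpace 1 R} {pm : P ⟶ M} {u : P ⟶ X} [IsSeparated f]
    (sq : IsPullback pc pm (CohB1.ProjSpace.toSpec 1 R) m) (comm : u ≫ f = pm ≫ m) :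
    ∃ N : M.Opens, ∀ (K : Type u) [Field K] (γ : Spec (CommRingCat.of K) ⟶ M) (h : CohB1.ProjSpace 1 K ⟶ P),
      IsPullback h (CohB1.ProjSpace.toSpec 1 K) pm γ →
      (γ (IsLocalRing.closedPoint K) ∈ N ↔ ¬ IsConst (h ≫ u)) := by
  obtain ⟨s, hs⟩ := exists_section R
  have hw : (m ≫ s) ≫ CohB1.ProjSpace.toSpec 1 R = 𝟙 M ≫ m := by
    rw [Category.assoc, hs, Category.comp_id, Category.id_comp]
  let σ : M ⟶ P := sq.lift (m ≫ s) (𝟙 M) hw
  have hσ : σ ≫ pm = 𝟙 M := sq.lift_snd _ _ _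
  obtain ⟨U, hU⟩ := exists_open_ne f u (pm ≫ σ ≫ u) (by
    rw [Category.assoc, Category.assoc, comm, reassoc_of% hσ])
  have hc : IsProper (CohB1.ProjSpace.toSpec 1 R) := Dix.ProjProper.isProper_toSpec 1 R
  have hsm : Smooth (CohB1.ProjSpace.toSpec 1 R) := Gaga.H364.ProjRed.smooth_toSpec 1 R
  have hpm : Smooth pm := MorphismProperty.of_isPullback sq hsm
  have hopen : IsOpenMap pm := pm.isOpenMap
  refine ⟨⟨pm '' U, hopen _ U.2⟩, fun K _ γ h H => ?_⟩
  have hr : IsReduced (CohB1.ProjSpace 1 K) := Gaga.H364.ProjRed.isReduced_projSpace 1 K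
  have hw2 : (γ ≫ σ) ≫ pm = 𝟙 _ ≫ γ := by
    rw [Category.assoc, hσ, Category.comp_id, Category.id_comp]
  let sK : Spec (CommRingCat.of K) ⟶ CohB1.ProjSpace 1 K := H.lift (γ ≫ σ) (𝟙 _) hw2
  have h1 : sK ≫ h = γ ≫ σ := H.lift_fst _ _ _
  have h2 : sK ≫ CohB1.ProjSpace.toSpec 1 K = 𝟙 _ := H.lift_snd _ _ _
  have h3 : h ≫ pm ≫ σ ≫ u = CohB1.ProjSpace.toSpec 1 K ≫ sK ≫ h ≫ u := by
    rw [reassoc_of% h1, reassoc_of% H.w]
  rw [isConst_iff_section (h ≫ u) sK h2, ← h3, hU _ h]
  push Not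
  have hrange := range_eq H
  constructor
  · rintro ⟨p, hp, hpγ⟩
    have : p ∈ Set.range h := by
      rw [hrange]
      exact ⟨_, hpγ.symm⟩
    obtain ⟨z, rfl⟩ := this
    exact ⟨z, hp⟩
  · rintro ⟨z, hz⟩
    refine ⟨h z, hz, ?_⟩
    have h4 : (CohB1.ProjSpace.toSpec 1 K) z = IsLocalRing.closedPoint K :=
      Subsingleton.elim (α := PrimeSpectrum K) _ _
    have h5 : pm (h z) = γ ((CohB1.ProjSpace.toSpec 1 K) z) := by
      rw [← Scheme.Hom.comp_apply, ← Scheme.Hom.comp_apply, H.w]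
    rw [h5, h4]

/-- A scheme locally of finite type over a scheme has a point over every algebraically closed point in its image. -/
theorem exists_point {K : Type u} [Field K] [IsAlgClosed K] {W S : Scheme.{u}} (w : W ⟶ S) [LocallyOfFiniteType w]
    (x : Spec (CommRingCat.of K) ⟶ S) (μ : W) (h : w μ = x (IsLocalRing.closedPoint K)) :
    ∃ γ : Spec (CommRingCat.of K) ⟶ W, γ ≫ w = x := by
  obtain ⟨z, -, -⟩ := Scheme.Pullback.exists_preimage_pullback (f := w) (g := x) μ _ h
  obtain ⟨_, ⟨U, hU, rfl⟩, hzU, -⟩ :=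
    (pullback w x).isBasis_affineOpens.exists_subset_of_mem_open (Set.mem_univ z) isOpen_univ
  have hUa : IsAffine U := hU
  have : CompactSpace U := inferInstance
  obtain ⟨y, -, hy⟩ := IsClosed.exists_closed_singleton (X := U) (S := Set.univ) isClosed_univ ⟨⟨z, hzU⟩, trivial⟩
  let q : (U : Scheme.{u}) ⟶ Spec (CommRingCat.of K) := Scheme.Opens.ι U ≫ pullback.snd w x
  have hq : LocallyOfFiniteType q := inferInstance
  refine ⟨pointOfClosedPoint q y hy ≫ Scheme.Opens.ι U ≫ pullback.fst w x, ?_⟩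
  rw [Category.assoc, Category.assoc, pullback.condition]
  have := pointOfClosedPoint_comp q y hy
  rw [← Category.assoc (Scheme.Opens.ι U), ← Category.assoc, this, Category.id_comp]

end K314.NonConst
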