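import Groth.Agent.MorSch.K314.MorSmooth
import Groth.Agent.MorSch.K314.MorProj
import Groth.Agent.MorSch.K314.NonConst
import Groth.Agent.Pic13.H969.BettiFam
import Groth.Agent.S0002
import Groth.Agent.PerfB.Semi
import Groth.Agent.CanPar.K795.FibreRank
import Groth.Agent.Desc.FinLocFreeSections
import Groth.Agent.Vancyc.H878.RelOmega
import Groth.Agent.Models2.FPCoh

/-!
# Openness of the set of points whose geometric fibre contains a free rational curve
-/

set_option autoImplicit false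
universe u

open CategoryTheory CategoryTheory.Limits AlgebraicGeometry Opposite TopologicalSpace
open Groth.Agent Groth.Agent.CohqB.ProjBC

namespace K314.FreeLocus

open K314.MorScheme K314.MorSmooth K314.NonConst K314.MorProj

/-- The fibres with `H⁰ = 0` of a vector bundle on a proper flat family form an open subset. -/
theorem isOpen_h0 {X S : Scheme.{u}} [IsLocallyNoetherian S] (f : X ⟶ S) [IsProper f] [Flat f] (E : X.Modules)
    (hE : FlatMod.IsFinLocFree E) :
    IsOpen {s : S | Subsingleton (Coh.HH (f.fiber s) ((Scheme.Modules.pullback (f.fiberι s)).obj E) 0)} := by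
  have : LocallyOfFinitePresentation f := LocallyOfFinitePresentation.iff_locallyOfFiniteType.2 inferInstance
  have hop : IsOpen {s : S | PerfAux.betti f E s 0 < 1} :=
    PerfB.Semi.isOpen_betti f E (Desc.FinLocFreeSections.isFP_of_isFinLocFree hE)
      (K795.FibreRank.isFlatOver_of_isFinLocFree f hE) 0 1
  convert hop using 1
  ext s
  let _ : (f.fiber s).Over (Spec (CommRingCat.of (S.residueField s))) := ⟨f.fiberToSpecResidueField s⟩
  have hpb : IsPullback (f.fiberι s) (f.fiber s ↘ Spec (CommRingCat.of (S.residueField s))) f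
    (S.fromSpecResidueField s) := IsPullback.of_hasPullback _ _
  have hp : IsProper (f.fiber s ↘ Spec (CommRingCat.of (S.residueField s))) :=
    MorphismProperty.of_isPullback hpb inferInstance
  have h1 := Pic13.H969.BettiFam.betti_eq_finrank f (S.residueField s) (S.fromSpecResidueField s) (f.fiber s)
    (f.fiberι s) hpb E (PerfB.ResolQC.isQCoh_of_isFinLocFree hE) 0
  have h2 : (S.fromSpecResidueField s) (IsLocalRing.closedPoint (S.residueField s)) = s :=
    Scheme.fromSpecResidueField_apply _ _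
  rw [h2] at h1
  have hc : Coh.IsCoh ((Scheme.Modules.pullback (f.fiberι s)).obj E) :=
    Models2.FPCoh.isCoh_of_isFP (Desc.FinLocFreeSections.isFP_of_isFinLocFree
      (PerfB.FlatPull.isFinLocFree_pullback (f.fiberι s) hE))
  have hfin := Groth.Agent.S0002.result (S.residueField s) (f.fiber s) _ hc 0
  rw [Set.mem_ofPred_eq, Set.mem_ofPred_eq, h1, Nat.lt_one_iff]
  exact ⟨fun h => Module.finrank_zero_of_subsingleton, fun h => Module.finrank_zero_iff.1 h⟩

/-- The `K`-valued point `x` of `S` carries a (nonconstant, if `nc`) curve `g : P¹ ⟶ X` with `H⁰(g^*Ω(a)) = 0`. -/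
def Has {X S : Scheme.{u}} (f : X ⟶ S) (a : ℤ) (nc : Prop) (K : Type u) [Field K]
    (x : Spec (CommRingCat.of K) ⟶ S) : Prop :=
  ∃ g : CohB1.ProjSpace 1 K ⟶ X, g ≫ f = CohB1.ProjSpace.toSpec 1 K ≫ x ∧ (nc → ¬ IsConst g) ∧
    Subsingleton (Coh.HH (CohB1.ProjSpace 1 K) (CohB1.tensorMod ((Scheme.Modules.pullback g).obj (Omega.sheaf f))
      (Twist.twistProjSpace 1 K a)) 0)

/-- `Has` is compatible with base change. -/
theorem has_iff {X' X T S : Scheme.{u}} {v : X' ⟶ X} {f' : X' ⟶ T} {f : X ⟶ S} {w : T ⟶ S}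
    (H : IsPullback v f' f w) [QuasiSeparated f] (a : ℤ) (nc : Prop) (K : Type u) [Field K]
    (x : Spec (CommRingCat.of K) ⟶ T) : Has f' a nc K x ↔ Has f a nc K (x ≫ w) := by
  have e1 := Vancyc.H878.RelOmega.omegaBC H
  have key : ∀ g : CohB1.ProjSpace 1 K ⟶ X',
      Subsingleton (Coh.HH (CohB1.ProjSpace 1 K) (CohB1.tensorMod ((Scheme.Modules.pullback g).obj (Omega.sheaf f'))
        (Twist.twistProjSpace 1 K a)) 0) ↔
      Subsingleton (Coh.HH (CohB1.ProjSpace 1 K) (CohB1.tensorMod ((Scheme.Modules.pullback (g ≫ v)).obj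
        (Omega.sheaf f)) (Twist.twistProjSpace 1 K a)) 0) := fun g =>
    Models2.HHFiber.subsingleton_HH_iff_of_iso (Ega2.Tens.mapTIso
      ((Scheme.Modules.pullback g).mapIso e1.symm ≪≫ (Scheme.Modules.pullbackComp g v).app _) (Iso.refl _)) 0
  constructor
  · rintro ⟨g, h1, h2, h3⟩
    refine ⟨g ≫ v, by rw [Category.assoc, H.w, reassoc_of% h1], fun hnc hc => h2 hnc ?_, (key g).1 h3⟩
    obtain ⟨s, hs⟩ := exists_section K
    rw [isConst_iff_section _ s hs] at hc ⊢
    apply H.hom_ext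
    · rw [hc]
      simp only [Category.assoc]
    · rw [h1, Category.assoc, Category.assoc, h1, reassoc_of% hs]
  · rintro ⟨g, h1, h2, h3⟩
    let g' : CohB1.ProjSpace 1 K ⟶ X' := H.lift g (CohB1.ProjSpace.toSpec 1 K ≫ x) (by rw [h1, Category.assoc])
    have h4 : g' ≫ v = g := H.lift_fst _ _ _
    refine ⟨g', H.lift_snd _ _ _, fun hnc hc => h2 hnc ?_, (key g').2 (by rw [h4]; exact h3)⟩
    obtain ⟨c, hc⟩ := hc
    exact ⟨c ≫ v, by rw [← h4, hc, Category.assoc]⟩

/-- **The main theorem**, over an affine base. -/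
theorem exists_open {R : Type u} [CommRing R] [IsNoetherianRing R] {X : Scheme.{u}}
    (f : X ⟶ Spec (CommRingCat.of R)) [Smooth f] (N : ℕ) (ι : X ⟶ CohB1.ProjSpace N R) [IsClosedImmersion ι]
    (hι : ι ≫ CohB1.ProjSpace.toSpec N R = f) (a : ℤ) (ha : -2 ≤ a) (nc : Prop) :
    ∃ V : (Spec (CommRingCat.of R)).Opens, ∀ (K : Type u) [Field K] (x : Spec (CommRingCat.of K) ⟶ Spec (CommRingCat.of R)),
      (Has f a nc K x → x (IsLocalRing.closedPoint K) ∈ V) ∧
      (IsAlgClosed K → x (IsLocalRing.closedPoint K) ∈ V → Has f a nc K x) := by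
  have hcs : IsProper (CohB1.ProjSpace.toSpec N R) := Dix.ProjProper.isProper_toSpec N R
  have hfs : IsSeparated f := by rw [← hι]; infer_instance
  obtain ⟨M, m, P, pc, pm, u, hm, hM⟩ := exists_mor R f N ι hι
  have sq := hM.sq
  have hc : IsProper (CohB1.ProjSpace.toSpec 1 R) := Dix.ProjProper.isProper_toSpec 1 R
  have hsm : Smooth (CohB1.ProjSpace.toSpec 1 R) := Gaga.H364.ProjRed.smooth_toSpec 1 R
  have hpm : IsProper pm := MorphismProperty.of_isPullback sq hc
  have hpms : Smooth pm := MorphismProperty.of_isPullback sq hsm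
  have hML : IsLocallyNoetherian M := LocallyOfFiniteType.isLocallyNoetherian m
  have : LocallyOfFinitePresentation m := LocallyOfFinitePresentation.iff_locallyOfFiniteType.2 inferInstance
  obtain ⟨W₂, hW₂⟩ := exists_open_nonconst (f := f) sq hM.comm
  have hF := isOpen_h0 pm (twSh f pc u a) (isFinLocFree_twSh f pc u a)
  let F : M.Opens := ⟨_, hF⟩
  let W : M.Opens := F ⊓ ⟨{μ | nc → μ ∈ W₂}, by
    by_cases hnc : nc
    · simpa [hnc] using W₂.2
    · simp [hnc]⟩
  have hWs : W ≤ m.smoothLocus := fun μ hμ => mem_smoothLocus hM a ha μ hμ.1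
  have hsmW : Smooth (W.ι ≫ m) := by
    have h1 := K633.SmallExtPt.smooth_smoothLocus m
    have h2 : W.ι ≫ m = M.homOfLE hWs ≫ m.smoothLocus.ι ≫ m := by
      rw [← Category.assoc, Scheme.homOfLE_ι]
    rw [h2]
    infer_instance
  have hopen : IsOpenMap (W.ι ≫ m) := (W.ι ≫ m).isOpenMap
  have hrange : IsOpen (Set.range (W.ι ≫ m)) := by
    rw [← Set.image_univ]
    exact hopen _ isOpen_univ
  -- the family over a field-valued point
  have fam : ∀ (K : Type u) [Field K] (x : Spec (CommRingCat.of K) ⟶ Spec (CommRingCat.of R))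
      (γ : Spec (CommRingCat.of K) ⟶ M), γ ≫ m = x →
      ∃ (ψ : R →+* K) (h : CohB1.ProjSpace 1 K ⟶ P), x = Spec.map (CommRingCat.ofHom ψ) ∧ h ≫ pc = pmap ψ 1 ∧
        h ≫ pm = CohB1.ProjSpace.toSpec 1 K ≫ γ := by
    rintro K _ x γ rfl
    obtain ⟨ψ, hψ⟩ : ∃ ψ : R →+* K, Spec.map (CommRingCat.ofHom ψ) = γ ≫ m :=
      ⟨(Spec.preimage (γ ≫ m)).hom, Spec.map_preimage _⟩
    have hw : pmap ψ 1 ≫ CohB1.ProjSpace.toSpec 1 R = (CohB1.ProjSpace.toSpec 1 K ≫ γ) ≫ m := by
      rw [(isPullback_pmap ψ 1).w, hψ, Category.assoc]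
    exact ⟨ψ, sq.lift _ _ hw, hψ.symm, sq.lift_fst _ _ _, sq.lift_snd _ _ _⟩
  refine ⟨⟨_, hrange⟩, fun K _ x => ⟨?_, ?_⟩⟩
  · rintro ⟨g, h1, h2, h3⟩
    obtain ⟨ψ, rfl⟩ : ∃ ψ : R →+* K, Spec.map (CommRingCat.ofHom ψ) = x :=
      ⟨(Spec.preimage x).hom, Spec.map_preimage _⟩
    obtain ⟨γ, ⟨hγ1, hγ2⟩, -⟩ := hM.existsUnique (T := Spec (CommRingCat.of K)) (Spec.map (CommRingCat.ofHom ψ))
      (pmap ψ 1) (CohB1.ProjSpace.toSpec 1 K) (isPullback_pmap ψ 1) g h1
    have hw : pmap ψ 1 ≫ CohB1.ProjSpace.toSpec 1 R = (CohB1.ProjSpace.toSpec 1 K ≫ γ) ≫ m := by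
      rw [(isPullback_pmap ψ 1).w, Category.assoc, hγ1]
    let h : CohB1.ProjSpace 1 K ⟶ P := sq.lift _ _ hw
    have hh1 : h ≫ pc = pmap ψ 1 := sq.lift_fst _ _ _
    have hh2 : h ≫ pm = CohB1.ProjSpace.toSpec 1 K ≫ γ := sq.lift_snd _ _ _
    have hu : h ≫ u = g := hγ2 h hh1 hh2
    have hμW : γ (IsLocalRing.closedPoint K) ∈ W := by
      refine ⟨(field_iff sq a ψ γ hγ1 h hh1 hh2 _ rfl).1 (by rw [hu]; exact h3), fun hnc => ?_⟩
      exact (hW₂ K γ h (isPullback_point sq ψ γ hγ1 h hh1 hh2)).2 (by rw [hu]; exact h2 hnc)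
    refine ⟨⟨_, hμW⟩, ?_⟩
    have h5 : m (γ (IsLocalRing.closedPoint K)) = (Spec.map (CommRingCat.ofHom ψ)) (IsLocalRing.closedPoint K) := by
      rw [← hγ1]
      exact (Scheme.Hom.comp_apply _ _ _).symm
    exact (Scheme.Hom.comp_apply _ _ _).trans h5
  · rintro hK ⟨μ, hμ⟩
    obtain ⟨γ', hγ'⟩ := exists_point (W.ι ≫ m) x μ hμ
    obtain ⟨ψ, h, hx, hh1, hh2⟩ := fam K x (γ' ≫ W.ι) (by rw [Category.assoc, hγ'])
    have hγm : (γ' ≫ W.ι) ≫ m = Spec.map (CommRingCat.ofHom ψ) := by rw [Category.assoc, hγ', hx]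
    have hmem : (γ' ≫ W.ι) (IsLocalRing.closedPoint K) ∈ W := (γ' (IsLocalRing.closedPoint K)).2
    refine ⟨h ≫ u, ?_, fun hnc => ?_, ?_⟩
    · rw [Category.assoc, hM.comm, ← Category.assoc, hh2, Category.assoc, Category.assoc, hγ']
    · exact (hW₂ K (γ' ≫ W.ι) h (isPullback_point sq ψ _ hγm h hh1 hh2)).1 (hmem.2 hnc)
    · exact (field_iff sq a ψ _ hγm h hh1 hh2 _ rfl).2 hmem.1

end K314.FreeLocus
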