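import Groth.Agent.MorSch.K314.FreeLocus

/-!
# Openness of the set of points whose geometric fibre contains a free rational curve, over any base
-/

set_option autoImplicit false
universe u

open CategoryTheory CategoryTheory.Limits AlgebraicGeometry Opposite TopologicalSpace
open Groth.Agent Groth.Agent.CohqB.ProjBC

namespace K314.FreeLocus

open K314.MorScheme K314.MorSmooth K314.NonConst K314.MorProj

/-- The geometric point over `t`. -/
noncomputable abbrev gpt (T : Scheme.{u}) (t : T) :
    Spec (CommRingCat.of (AlgebraicClosure ↥(T.residueField t))) ⟶ T :=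
  Spec.map (CommRingCat.ofHom (algebraMap ↥(T.residueField t) (AlgebraicClosure ↥(T.residueField t)))) ≫
    T.fromSpecResidueField t

theorem gpt_apply (T : Scheme.{u}) (t : T) : gpt T t (IsLocalRing.closedPoint _) = t := by
  refine (Scheme.Hom.comp_apply _ _ _).trans ?_
  exact Scheme.fromSpecResidueField_apply _ _

/-- **Openness.** -/
theorem isOpen_has {T X : Scheme.{u}} (f : X ⟶ T) [IsLocallyNoetherian T] [Smooth f]
    (hproj : ∃ (N : ℕ) (ι : X ⟶ CohB1.ProjSpaceOver N T), IsClosedImmersion ι ∧
      ι ≫ CohB1.ProjSpaceOver.toBase N T = f) (a : ℤ) (ha : -2 ≤ a) (nc : Prop) :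
    IsOpen {t : T | Has f a nc (AlgebraicClosure ↥(T.residueField t)) (gpt T t)} := by
  obtain ⟨N, ι, hι, hιf⟩ := hproj
  have hpT : IsProper (CohB1.ProjSpaceOver.toBase N T) := Dix.ProjProper.isProper_toBase N T
  have hfs : IsSeparated f := by rw [← hιf]; infer_instance
  rw [isOpen_iff_forall_mem_open]
  intro t ht
  obtain ⟨_, ⟨U, hU, rfl⟩, htU, -⟩ :=
    T.isBasis_affineOpens.exists_subset_of_mem_open (Set.mem_univ t) isOpen_univ
  have hU : IsAffineOpen U := hU
  have : IsNoetherianRing Γ(T, U) := IsLocallyNoetherian.component_noetherian ⟨U, hU⟩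
  let h : Spec (CommRingCat.of Γ(T, U)) ⟶ T := hU.fromSpec
  have hh : IsOpenImmersion h := hU.isOpenImmersion_fromSpec
  have H1 : IsPullback (pullback.snd ι (Ega3A.PChart.chart N h)) (pullback.fst ι (Ega3A.PChart.chart N h))
      (Ega3A.PChart.chart N h) ι := (IsPullback.of_hasPullback _ _).flip
  let ιU := pullback.snd ι (Ega3A.PChart.chart N h)
  let v := pullback.fst ι (Ega3A.PChart.chart N h)
  let fU := ιU ≫ CohB1.ProjSpace.toSpec N Γ(T, U)
  have H : IsPullback v fU f h := by
    have h2 := H1.flip.paste_vert (Ega3A.PChart.isPullback_chart N h)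
    rwa [hιf] at h2
  have hsU : Smooth fU := MorphismProperty.of_isPullback H inferInstance
  obtain ⟨V, hV⟩ := exists_open fU N ιU rfl a ha nc
  refine ⟨h '' V, ?_, h.isOpenEmbedding.isOpenMap _ V.2, ?_⟩
  · rintro _ ⟨s, hs, rfl⟩
    have hr : Set.range (gpt T (h s)) ⊆ Set.range h := by
      rintro _ ⟨z, rfl⟩
      have hz : z = IsLocalRing.closedPoint _ := Subsingleton.elim (α := PrimeSpectrum _) _ _
      rw [hz, gpt_apply]
      exact ⟨s, rfl⟩
    let x := IsOpenImmersion.lift h (gpt T (h s)) hr
    have hx : x ≫ h = gpt T (h s) := IsOpenImmersion.lift_fac _ _ _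
    have hx' : x (IsLocalRing.closedPoint _) = s := by
      apply h.isOpenEmbedding.injective
      refine (Scheme.Hom.comp_apply x h _).symm.trans ?_
      rw [hx]
      exact gpt_apply T (h s)
    rw [Set.mem_ofPred_eq, ← hx, ← has_iff H]
    exact (hV _ x).2 inferInstance (by rw [hx']; exact hs)
  · have hr : Set.range (gpt T t) ⊆ Set.range h := by
      rintro _ ⟨z, rfl⟩
      have hz : z = IsLocalRing.closedPoint _ := Subsingleton.elim (α := PrimeSpectrum _) _ _
      rw [hz, gpt_apply]
      have h3 : Set.range hU.fromSpec = (U : Set T) := hU.range_fromSpec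
      change t ∈ Set.range hU.fromSpec
      rw [h3]
      exact htU
    let x := IsOpenImmersion.lift h (gpt T t) hr
    have hx : x ≫ h = gpt T t := IsOpenImmersion.lift_fac _ _ _
    rw [Set.mem_ofPred_eq, ← hx, ← has_iff H] at ht
    refine ⟨_, (hV _ x).1 ht, ?_⟩
    refine (Scheme.Hom.comp_apply x h _).symm.trans ?_
    rw [hx]
    exact gpt_apply T t

end K314.FreeLocus
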